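/-
The three shapes read on the projective line: only small fields survive.
-/
import Mathlib
import Cfsg.Agent.MinU.ThreePlane

set_option autoImplicit false

open scoped OnePoint MatrixGroups

namespace Cfsg.Agent.MinU.Three

open Cfsg.Agent.Classical.U Cfsg.Agent.MinU MulAction Cfsg.Agent.MaxSub.Dickson

universe u v

section Pair

variable {F : Type u} [Field F] [Fintype F] [DecidableEq F]
variable {K : Type u} [Field K] [DecidableEq K] [Algebra F K]

/-- A pair is not fixed by a group transitive on a set with conjugates of a long rotation. -/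
theorem pair_absurd {Γ : Subgroup PGL(2, F)} {a b : OnePoint K} (hle : Γ ≤ pairStab a b)
    (hab : a ≠ b) {S : Set (OnePoint F)} (h0 : ((0 : F) : OnePoint F) ∈ S)
    (hS : 3 ≤ S.ncard) (htr : ∀ z ∈ S, ∃ g ∈ Γ, g • z = (∞ : OnePoint F)) {u : PGL(2, F)}
    (hu : u ∈ Γ) (hu2 : u ^ 2 ≠ 1) (hi : u • (∞ : OnePoint F) = ∞) : False := by
  have hsq : ∀ g ∈ Γ, emb K (g ^ 2) • a = a ∧ emb K (g ^ 2) • b = b := by
    intro g hg
    rw [map_pow, sq, mul_smul, mul_smul]
    rcases hle hg with ⟨e1, e2⟩ | ⟨e1, e2⟩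
    · rw [e1, e1, e2, e2]; exact ⟨rfl, rfl⟩
    · rw [e1, e2, e1]; exact ⟨rfl, rfl⟩
  have key : ∀ z ∈ S, pt₀ K z = a ∨ pt₀ K z = b := by
    intro z hz
    by_contra h
    push Not at h
    obtain ⟨g, hg, hgz⟩ := htr z hz
    have hv := hsq (g⁻¹ * u * g) (mul_mem (mul_mem (inv_mem hg) hu) hg)
    have hfix : emb K ((g⁻¹ * u * g) ^ 2) • pt₀ K z = pt₀ K z := by
      have e : (g⁻¹ * u * g) • z = z := by
        rw [mul_smul, mul_smul, hgz, hi, inv_smul_eq_iff, hgz]
      rw [emb_pt, sq, mul_smul, e, e]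
    have h1 := eq_one_of_three hab h.1.symm h.2.symm hv.1 hv.2 hfix
    rw [← map_one (emb (F := F) K)] at h1
    have h2 := emb_injective h1
    rw [show g⁻¹ * u * g = g⁻¹ * u * g⁻¹⁻¹ by rw [inv_inv], conj_pow, mul_inv_eq_one] at h2
    exact hu2 (by simpa using h2)
  have hfin : ({a, b} : Set (OnePoint K)).Finite := Set.toFinite _
  have := Set.ncard_le_ncard_of_injOn (t := ({a, b} : Set (OnePoint K))) (pt₀ K) (fun z hz => by
    rcases key z hz with h | h <;> simp [h]) (pt₀_injective.injOn) hfin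
  rw [Set.ncard_pair hab] at this
  omega

end Pair

variable {F : Type u} [Field F] {q : ℕ}
variable (hF : SqField F q)
include hF
variable {X : Type v} [UAct F q X 1]
variable (S : Setting F q X)
include S

/-- The two torus shapes. -/
theorem torus_core {x : X} {g0 : Fˣ} (hg0 : lv hF g0 • x = x)
    (hgen : ∀ l ∈ Cs hF x, l ∈ Subgroup.zpowers g0) (hK : Kset hF x = ⊥) {l0 : Fˣ}
    (hl0 : l0 ∈ Subgroup.zpowers g0) (hN : nu q l0 = 1) (h3 : l0 ^ 3 ≠ 1)
    (hc : 3 ≤ orderOf (nu q g0)) :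
    (q + 1) * orderOf (nu q g0) ∈ ({12, 24, 60} : Finset ℕ) := by
  classical
  obtain ⟨hfin, hcard⟩ := id hF
  have := Fintype.ofFinite F
  obtain ⟨p, k, hp, hchar, hqp⟩ := hF.exists_char
  have := Fact.mk hp
  have hq := S.three
  have hpow : ∀ l ∈ Subgroup.zpowers g0, lv hF l • x = x := by
    rintro _ ⟨i, rfl⟩
    rw [map_zpow]
    exact (Subgroup.zpowers_le.2 (show lv hF g0 ∈ stabilizer (SG 1 F q) x from hg0))
      (Subgroup.zpow_mem_zpowers _ i)
  have hlam := hpow l0 hl0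
  have hl0q : ((l0 : F) ^ q)⁻¹ = l0 := by
    refine inv_eq_of_mul_eq_one_left ?_
    rw [← nu_coe, hN, Units.val_one]
  have hmu : (mu q l0 : F) ≠ 1 := by
    intro e
    refine h3 (Units.ext ?_)
    rw [Units.val_pow_eq_pow_val, Units.val_one]
    have h1 : (l0 : F) ^ q = (l0 : F)⁻¹ := by rw [← inv_inv ((l0 : F) ^ q), hl0q]
    rw [mu_coe, h1] at e
    have := l0.ne_zero
    field_simp at e
    linear_combination -e
  -- the centraliser of the block element moves every block point to infinity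
  have htr : ∀ z ∈ Sset hF, ∃ γ ∈ Gam hF x, γ • z = (∞ : OnePoint F) := by
    intro z hz
    obtain ⟨h, hhx, hhL⟩ := line_trans hF S x (toLn hF hz)
    set v := ph hF 1 (vecOf z, 0) with hv
    have hlv : (lv hF l0).1.1 v = (l0 : F) • v := by
      rw [hv, ← Prod.mk.eta (p := vecOf z), lv_apply, hl0q, ← map_smul]
      simp [Prod.smul_def]
    obtain ⟨c, hc'⟩ : ∃ c : F, h.1.1 v = c • eV hF 1 := by
      have e : mapL h (lineOf hF z) = Submodule.span F {eV hF 1} := congrArg Subtype.val hhL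
      rw [lineOf, mapL_span] at e
      have hm := Submodule.mem_span_singleton_self (R := F) (h.1.1 v)
      rw [e] at hm
      obtain ⟨c, hc'⟩ := Submodule.mem_span_singleton.1 hm
      exact ⟨c, hc'.symm⟩
    have hlL : lv hF l0 • toLn hF hz = toLn hF hz := by
      refine Subtype.ext ?_
      change mapL _ (lineOf hF z) = lineOf hF z
      rw [lineOf, mapL_span, hlv]
      exact Submodule.span_singleton_smul_eq (IsUnit.mk0 _ l0.ne_zero) _
    set μ := h * lv hF l0 * h⁻¹ with hμ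
    have hμL : μ • Le hF = Le hF := by
      rw [hμ, mul_smul, mul_smul, inv_smul_eq_iff.2 hhL.symm, hlL, hhL]
    obtain ⟨r, l, hμe⟩ := exists_decomp_Bor hF hμL
    have hc0 : c ≠ 0 := by
      rintro rfl
      rw [zero_smul, LinearEquiv.map_eq_zero_iff, hv, LinearEquiv.map_eq_zero_iff] at hc'
      have := congrArg Prod.fst hc'
      induction z using OnePoint.rec <;> simp [vecOf_infty, vecOf_coe] at this
    obtain rfl : l = l0 := by
      have e1 : μ.1.1 (h.1.1 v) = (l0 : F) • h.1.1 v := by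
        rw [hμ]
        simp only [Subgroup.coe_mul, LinearEquiv.mul_apply, Subgroup.coe_inv]
        rw [show (h.1.1)⁻¹ (h.1.1 v) = v from h.1.1.symm_apply_apply v, hlv, map_smul]
      rw [hμe, hc', map_smul, Subgroup.coe_mul, Subgroup.coe_mul, LinearEquiv.mul_apply,
        ← ph_eV hF, lv_apply, tE_apply, ← map_smul, ← map_smul, ← map_smul,
        (ph hF 1).injective.eq_iff] at e1
      simp [hc0] at e1
      refine Units.ext (mul_left_cancel₀ hc0 ?_)
      linear_combination e1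
    have hμx : μ • x = x := by
      rw [hμ, mul_smul, mul_smul, inv_smul_eq_iff.2 hhx.symm, hlam, hhx]
    have hr : tE hF r • x = x := by
      have e := hμx
      rwa [hμe, mul_smul, hlam] at e
    -- choose the conjugating element
    let φ : Aset hF x → Aset hF x := fun w =>
      ⟨w.1 - (mu q l : F) • w.1, (Aset hF x).sub_mem w.2
        (mu_mem_Aset hF ((mem_Cs hF).2 ⟨hOne hF, by rw [tE_one, one_mul]; exact hlam⟩) w.2)⟩
    have hφ : Function.Injective φ := by
      intro w w' e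
      have e' := congrArg (fun s : Aset hF x => (s : Fin 1 → F) 0) e
      simp only [φ, Pi.sub_apply, Pi.smul_apply, smul_eq_mul] at e'
      refine Subtype.ext (ext_one (mul_left_cancel₀ (sub_ne_zero.2 hmu.symm) ?_))
      linear_combination e'
    obtain ⟨⟨_, s, rfl, hs⟩, hsr⟩ := (Finite.injective_iff_surjective.1 hφ) ⟨r.1.1, r, rfl, hr⟩
    have hsr' : s.1.1 - (mu q l : F) • s.1.1 = r.1.1 := congrArg Subtype.val hsr
    have hconj : tE hF s * lv hF l * (tE hF s)⁻¹ = μ := by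
      set s' := hMul hF s (hInv hF (hl hF l s)) with hs'
      have e1 : tE hF s * lv hF l * (tE hF s)⁻¹ = tE hF s' * lv hF l := by
        rw [hs', ← tE_mul, ← tE_inv, ← lv_conj]
        group
      have h1 : tE hF s' • x = x := by
        have : (tE hF s * lv hF l * (tE hF s)⁻¹) • x = x := by
          rw [mul_smul, mul_smul, inv_smul_eq_iff.2 hs.symm, hlam, hs]
        rwa [e1, mul_smul, hlam] at this
      have hv' : s'.1.1 = r.1.1 := by
        rw [← hsr', hs']
        simp [hMul, hInv, hl, sub_eq_add_neg]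
      have h2 := sub_mem_Kset hF hv' h1 hr
      rw [hK, AddSubgroup.mem_bot, sub_eq_zero] at h2
      rw [e1, hμe, show s' = r from Subtype.ext (Prod.ext hv' h2)]
    set g := (tE hF s)⁻¹ * h with hg
    have hcomm : g * lv hF l = lv hF l * g := by
      rw [hg]
      calc (tE hF s)⁻¹ * h * lv hF l = (tE hF s)⁻¹ * μ * h := by rw [hμ]; group
        _ = _ := by rw [← hconj]; group
    have hgP := mem_Pl_of_comm hF hN h3 hcomm
    refine ⟨_, (mem_Gam hF).2 ⟨⟨g, hgP⟩, ?_, rfl⟩, (smul_eq_iff hF ⟨g, hgP⟩ (L := toLn hF hz)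
      (M := Le hF) rfl (lineOf_infty hF).symm).1 ?_⟩
    · change ((tE hF s)⁻¹ * h) • x = x
      rw [mul_smul, hhx, inv_smul_eq_iff, hs]
    · change ((tE hF s)⁻¹ * h) • toLn hF hz = Le hF
      rw [mul_smul, hhL, inv_smul_eq_iff, tE_smul_Le]
  set Γ := Gam hF x with hΓ
  -- the stabiliser of infinity
  let af : Fˣ →* PGL(2, F) := MonoidHom.mk' (fun u => aff u 0) fun u u' => by
    rw [aff_mul, mul_zero, add_zero]
  have haf : Function.Injective af := fun u u' e => (aff_inj e).1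
  set u := af (nu q g0) with hu_def
  have hu : u ∈ Γ := (mem_Gam hF).2 ⟨⟨lv hF g0, lv_mem hF g0⟩, hg0, gam_lv hF g0⟩
  have huo : orderOf u = orderOf (nu q g0) := orderOf_injective af haf _
  have hst : ∀ γ ∈ Γ, γ • (∞ : OnePoint F) = ∞ → γ ∈ Subgroup.zpowers u := by
    intro γ hγ hγi
    obtain ⟨g, hgx, rfl⟩ := (mem_Gam hF).1 hγ
    have hgL : g.1 • Le hF = Le hF :=
      (smul_eq_iff hF g (lineOf_infty hF).symm (lineOf_infty hF).symm).2 hγi
    obtain ⟨a, l, hgl⟩ := exists_of_fix hF g.2 hgL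
    have hlC : l ∈ Cs hF x := (mem_Cs hF).2 ⟨hZ hF a.2, by
      change (zc hF a * lv hF l) • x = x
      rw [← hgl]; exact hgx⟩
    obtain ⟨i, hi⟩ := hgen l hlC
    have ha : zc hF a • x = x := by
      have := hgx
      rwa [hgl, mul_smul, hpow l (hgen l hlC)] at this
    have ha0 : a = 0 := by
      have : (a : F) ∈ Kset hF x := ⟨a.2, ha⟩
      rw [hK, AddSubgroup.mem_bot] at this
      exact Subtype.ext this
    rw [ha0, zc_zero, one_mul] at hgl
    have e : g = ⟨lv hF l, lv_mem hF l⟩ := Subtype.ext hgl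
    rw [e, gam_lv]
    exact ⟨i, by rw [← hi, map_zpow]; exact (map_zpow af _ i).symm⟩
  have h0S : ((0 : F) : OnePoint F) ∈ Sset hF := Or.inr ⟨0, (skew hF).zero_mem, rfl⟩
  have hiS : (∞ : OnePoint F) ∈ Sset hF := Or.inl rfl
  have hmap : ∀ γ ∈ Γ, ∀ z ∈ Sset hF, γ • z ∈ Sset hF := by
    intro γ hγ z hz
    obtain ⟨g, -, rfl⟩ := (mem_Gam hF).1 hγ
    exact gam_mem_Sset hF g hz
  have hcardΓ : Nat.card Γ = (q + 1) * orderOf (nu q g0) := by
    rw [← card_orbit_mul (G := Γ) (∞ : OnePoint F)]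
    congr 1
    · rw [← card_Sset hF]
      refine Nat.card_congr (Equiv.setCongr (Set.Subset.antisymm ?_ fun z hz => ?_))
      · rintro _ ⟨γ, rfl⟩; exact hmap γ.1 γ.2 _ hiS
      · obtain ⟨γ, hγ, e⟩ := htr z hz
        exact ⟨⟨γ⁻¹, inv_mem hγ⟩, inv_smul_eq_iff.2 e.symm⟩
    · rw [← huo, ← Nat.card_zpowers]
      exact Nat.card_congr
        { toFun := fun γ => ⟨γ.1.1, hst _ γ.1.2 γ.2⟩
          invFun := fun γ => ⟨⟨γ.1, Subgroup.zpowers_le.2 hu γ.2⟩, by
            refine (Subgroup.zpowers_le.2 (show u ∈ stabilizer PGL(2, F) (∞ : OnePoint F) from ?_)) γ.2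
            exact aff_infty _ _⟩
          left_inv := fun _ => rfl
          right_inv := fun _ => rfl }
  have hpd : ¬ p ∣ Nat.card Γ := by
    rw [hcardΓ, hp.dvd_mul]
    have hpq : p ∣ q := by
      rcases k.eq_zero_or_pos with rfl | hk
      · rw [hqp, pow_zero] at hq; omega
      · rw [hqp]; exact dvd_pow_self p hk.ne'
    rintro (h | h)
    · exact hp.ne_one (Nat.dvd_one.1 ((Nat.dvd_add_right hpq).1 h))
    · have h1 : orderOf (nu q g0) ∣ q ^ 2 - 1 := by
        refine orderOf_dvd_of_pow_eq_one (Units.ext ?_)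
        rw [Units.val_pow_eq_pow_val]; exact units_pow hF _
      have h3 := Nat.dvd_sub (hpq.trans (dvd_pow_self q two_ne_zero)) (h.trans h1)
      rw [Nat.sub_sub_self (Nat.one_le_pow _ _ (by omega))] at h3
      exact hp.ne_one (Nat.dvd_one.1 h3)
  have hS3 : 3 ≤ (Sset hF).ncard := by
    rw [← Nat.card_coe_set_eq, card_Sset hF]; omega
  have hu2 : u ^ 2 ≠ 1 := fun e => by
    have := Nat.le_of_dvd two_pos (orderOf_dvd_of_pow_eq_one e)
    omega
  have htr' := fun z hz => htr z hz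
  have hui : u • (∞ : OnePoint F) = ∞ := aff_infty _ _
  rw [← hcardΓ]
  rcases classifyF (K := AlgebraicClosure F) (p := p) Γ with
    ⟨a, b, mm, -, -, hab, hle, -⟩ | ⟨a, b, mm, n, hab, hle, -, -, -, -, -⟩ | ⟨x₀, hfix, hdv⟩ |
    ⟨-, hc', -⟩ | ⟨-, hc', -⟩ | ⟨-, hc', -⟩ | ⟨F₀, h, -, he⟩ | ⟨F₀, h, -, -, he⟩
  · exact (pair_absurd (hle.trans tor_le_pairStab) hab.1 h0S hS3 htr' hu hu2 hui).elim
  · exact (pair_absurd hle hab.1 h0S hS3 htr' hu hu2 hui).elim
  · exact absurd hdv hpd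
  · rw [hc']; decide
  · rw [hc']; decide
  · rw [hc']; decide
  · refine absurd (subfield_trans F₀ h Γ (fun s _ => ?_) (fun g hg => ?_)).1 hpd
    · have hm : subPGL F₀ s ∈ Γ.map (MulAut.conj h⁻¹).toMonoidHom := by rw [he]; exact ⟨s, rfl⟩
      obtain ⟨γ, hγ, e⟩ := hm
      rw [← e]; simpa [mul_assoc] using hγ
    · have hm : h⁻¹ * g * h ∈ (subPGL F₀).range := by rw [← he]; exact ⟨g, hg, by simp⟩
      obtain ⟨s, hs⟩ := hm
      exact ⟨s, by rw [hs]; group⟩
  · refine absurd (subfield_trans F₀ h Γ (fun s hs => ?_) (fun g hg => ?_)).1 hpd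
    · have hm : subPGL F₀ s ∈ Γ.map (MulAut.conj h⁻¹).toMonoidHom := by
        rw [he, range_subPSL]; exact ⟨s, hs, rfl⟩
      obtain ⟨γ, hγ, e⟩ := hm
      rw [← e]; simpa [mul_assoc] using hγ
    · have hm : h⁻¹ * g * h ∈ (subPSL F₀).range := by rw [← he]; exact ⟨g, hg, by simp⟩
      rw [range_subPSL] at hm
      obtain ⟨s, -, hs⟩ := hm
      exact ⟨s, by rw [hs]; group⟩

omit S in
/-- Translations in the image come from the centre part. -/
theorem translation_mem [DecidableEq F] {y : X} {γ : PGL(2, F)} (hγ : γ ∈ Gam hF y) {p : ℕ}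
    [Fact p.Prime] [CharP F p] (hpow : γ ^ p = 1) (hfix : γ • (∞ : OnePoint F) = ∞) :
    ∃ a ∈ Kset hF y, γ = aff 1 a := by
  obtain ⟨hfin, hcard⟩ := id hF
  obtain ⟨g, hgx, rfl⟩ := (mem_Gam hF).1 hγ
  obtain ⟨a, l, hgl⟩ := exists_of_fix hF g.2
    ((smul_eq_iff hF g (lineOf_infty hF).symm (lineOf_infty hF).symm).2 hfix)
  have e : g = (⟨zc hF a, zc_mem hF a⟩ : ↥(Pl hF)) * ⟨lv hF l, lv_mem hF l⟩ := Subtype.ext hgl
  rw [e, map_mul, gam_zc, gam_lv, aff_mul, one_mul, mul_zero, zero_add] at hpow ⊢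
  rw [aff_pow_char_eq_one_iff] at hpow
  refine ⟨a, ⟨a.2, ?_⟩, by rw [hpow]⟩
  have hn : (zc hF a * lv hF l) ^ (q ^ 2 - 1) • y = y := by
    rw [← hgl]
    exact (stabilizer (SG 1 F q) y).pow_mem hgx _
  have hl1 : lv hF l ^ (q ^ 2 - 1) = 1 := by
    rw [← map_pow, show l ^ (q ^ 2 - 1) = 1 from Units.ext (by
      rw [Units.val_pow_eq_pow_val]; exact units_pow hF l), map_one]
  rw [(show Commute (zc hF a) (lv hF l) from (zc_comm hF hpow a).symm).mul_pow, hl1, mul_one,
    zc_nsmul] at hn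
  have hneg : (q ^ 2 - 1) • a = -a := by
    have hq2 : q ^ 2 - 1 + 1 = q ^ 2 := Nat.sub_add_cancel (Nat.one_le_pow _ _ hF.one_lt.le)
    refine eq_neg_of_add_eq_zero_left ?_
    rw [← succ_nsmul, hq2]
    refine Subtype.ext ?_
    have := Fintype.ofFinite F
    rw [AddSubgroup.coe_nsmul, nsmul_eq_mul, ← hcard, Nat.card_eq_fintype_card,
      Nat.cast_card_eq_zero, zero_mul]
    rfl
  rw [hneg] at hn
  have h0 : (zc hF a)⁻¹ = zc hF (-a) :=
    inv_eq_of_mul_eq_one_right (by rw [← zc_add, add_neg_cancel, zc_zero])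
  rw [← h0, inv_smul_eq_iff] at hn
  exact hn.symm

/-- The shape with a centre part leaves few fields. -/
theorem centre_kinds {x : X} (hK : Kset hF x ≠ ⊥) :
    ((2 : F) = 0 ∧ Nat.card (Kset hF x) = 2) ∨ (q = 9 ∧ Nat.card (Kset hF x) = 3) := by
  classical
  obtain ⟨hfin, hcard⟩ := id hF
  have := Fintype.ofFinite F
  obtain ⟨p, k, hp, hchar, hqp⟩ := hF.exists_char
  have := Fact.mk hp
  have hq := S.three
  set κ := Nat.card (Kset hF x) with hκ
  have hκ1 : 1 < κ := by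
    by_contra hh
    exact hK ((Kset hF x).eq_bot_of_card_le (by omega))
  have hκq : κ < q := by
    by_contra hh
    exact Kset_ne hF S x (AddSubgroup.eq_of_le_of_card_ge (Kset_le hF x)
      (by rw [card_skew hF]; omega))
  have hκd : κ ∣ q := by
    rw [← card_skew hF]
    exact AddSubgroup.card_dvd_of_le (Kset_le hF x)
  set Γ := Gam hF x with hΓ
  -- transvections at every block point
  have htv : ∀ z ∈ Sset hF, ∃ γ ∈ Γ, γ ≠ 1 ∧ γ ^ p = 1 ∧ γ • z = z := by
    intro z hz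
    obtain ⟨h, hhx, hhL⟩ := line_trans hF S x (toLn hF hz)
    obtain ⟨a, ha, ha0⟩ := (AddSubgroup.bot_or_exists_ne_zero _).resolve_left hK
    obtain ⟨ha', hafix⟩ := ha
    obtain ⟨h', e⟩ := tS_conj hF h⁻¹ (trvCond_eV hF (m := 1) ha')
    rw [inv_inv, tS_eV hF ha'] at e
    set t := h⁻¹ * tE hF (hZ hF ha') * h with ht
    have htP : t ∈ Pl hF := by
      have hm : (h⁻¹).1.1 (eV hF 1) ∈ lineOf hF z := by
        have e' : mapL h⁻¹ (Le hF).1 = lineOf hF z :=
          congrArg Subtype.val (inv_smul_eq_iff.2 hhL.symm : h⁻¹ • Le hF = toLn hF hz)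
        rw [← e']
        exact Submodule.mem_map_of_mem (Submodule.mem_span_singleton_self _)
      obtain ⟨c, hc⟩ := Submodule.mem_span_singleton.1 hm
      have hv : (h⁻¹).1.1 (eV hF 1) = ph hF 1 ((c * (vecOf z).1, c * (vecOf z).2), 0) := by
        rw [← hc, ← map_smul]
        congr 1
        ext <;> simp
      have key : ∀ (v : Fin (1 + 2) → F) (h' : TrvCond q v a) (x y : F),
          v = ph hF 1 ((x, y), 0) → tS hF h' ∈ Pl hF := by
        rintro v h' x y rfl; exact tS_mem hF h'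
      rw [e]
      exact key _ h' _ _ hv
    have htx : t • x = x := by
      rw [ht, mul_smul, mul_smul, hhx, hafix, inv_smul_eq_iff, hhx]
    have htz : ∀ L : Ln F q, t • L = L → L = toLn hF hz := by
      intro L hL
      rw [ht, mul_smul, mul_smul, inv_smul_eq_iff] at hL
      refine MulAction.injective h ((eq_Le_of_tE hF ?_ hL).trans hhL.symm)
      exact fun e => ha0 (congrArg (fun r : Heis 1 F q => r.1.2) e)
    have htfix : t • toLn hF hz = toLn hF hz := by
      rw [ht, mul_smul, mul_smul, hhL, tE_smul_Le, inv_smul_eq_iff, hhL]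
    refine ⟨_, (mem_Gam hF).2 ⟨⟨t, htP⟩, htx, rfl⟩, fun e1 => ?_, ?_,
      (smul_eq_iff hF ⟨t, htP⟩ (L := toLn hF hz) (M := toLn hF hz) rfl rfl).1 htfix⟩
    · obtain ⟨z', hz', hne⟩ : ∃ z' ∈ Sset hF, z' ≠ z := by
        refine Set.exists_ne_of_one_lt_ncard ?_ z
        rw [← Nat.card_coe_set_eq, card_Sset hF]; omega
      refine hne (lineOf_injective hF (congrArg Subtype.val (htz (toLn hF hz') ?_)))
      exact (smul_eq_iff hF ⟨t, htP⟩ (L := toLn hF hz') (M := toLn hF hz') rfl rfl).2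
        (by rw [e1, one_smul])
    · rw [← map_pow, show (⟨t, htP⟩ : ↥(Pl hF)) ^ p = 1 from Subtype.ext ?_, map_one]
      change t ^ p = 1
      rw [ht, show h⁻¹ * tE hF (hZ hF ha') * h = h⁻¹ * tE hF (hZ hF ha') * h⁻¹⁻¹ by rw [inv_inv],
        conj_pow, show tE hF (hZ hF ha') = zc hF ⟨a, ha'⟩ from rfl, zc_nsmul,
        show p • (⟨a, ha'⟩ : skew hF) = 0 from Subtype.ext (by
          rw [AddSubgroup.coe_nsmul, nsmul_eq_mul, CharP.cast_eq_zero, zero_mul]; rfl), zc_zero]
      group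
  choose γ hγΓ hγ1 hγp hγz using fun z : Sset hF => htv z.1 z.2
  have hiS : (∞ : OnePoint F) ∈ Sset hF := Or.inl rfl
  have hne2 : ∃ z w : Sset hF, z ≠ w :=
    ⟨⟨∞, hiS⟩, ⟨((0 : F) : OnePoint F), Or.inr ⟨0, (skew hF).zero_mem, rfl⟩⟩,
      fun e => OnePoint.infty_ne_coe _ (congrArg Subtype.val e)⟩
  have hpdvd : p ∣ Nat.card Γ := by
    have := orderOf_dvd_natCard (⟨γ ⟨∞, hiS⟩, hγΓ _⟩ : Γ)
    rwa [Subgroup.orderOf_mk, orderOf_eq_prime (hγp _) (hγ1 _)] at this
  have hcount : p ≠ 2 → (q + 1) * 2 ≤ Nat.card {g : Γ // g ^ p = 1 ∧ g ≠ 1} := by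
    intro hp2
    rw [← card_Sset hF]
    refine le_trans (le_of_eq (b := Nat.card (Sset hF × Bool)) ?_)
      (Nat.card_le_card_of_injective (fun r => ⟨bif r.2 then ⟨γ r.1, hγΓ _⟩ else
      ⟨γ r.1, hγΓ _⟩⁻¹, ?_, ?_⟩) ?_)
    · simp
    · cases r.2 <;> simp [Subtype.ext_iff, hγp]
    · cases r.2 <;> simp [Subtype.ext_iff, hγ1]
    · rintro ⟨z, b⟩ ⟨w, c⟩ e
      have e' : (bif b then γ z else (γ z)⁻¹) = (bif c then γ w else (γ w)⁻¹) := by
        have := congrArg (fun g : {g : Γ // g ^ p = 1 ∧ g ≠ 1} => (g.1 : PGL(2, F))) e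
        cases b <;> cases c <;> simpa using this
      have hzw : z = w := by
        refine Subtype.ext (fixed_unique (p := p) (hγ1 z) (hγp z) (hγz z) ?_)
        have hw : (γ w)⁻¹ • w.1 = w.1 := inv_smul_eq_iff.2 (hγz w).symm
        cases b <;> cases c <;> simp at e'
        · rw [e']; exact hγz w
        · rw [inv_eq_iff_eq_inv.1 e']; exact hw
        · rw [e']; exact hw
        · rw [e']; exact hγz w
      subst hzw
      refine Prod.ext rfl ?_
      have h2 : γ z ≠ (γ z)⁻¹ := fun h => hp2 (by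
        have h3 : orderOf (γ z) ∣ 2 := orderOf_dvd_of_pow_eq_one (by
          rw [sq]; nth_rewrite 2 [h]; exact mul_inv_cancel _)
        rw [orderOf_eq_prime (hγp z) (hγ1 z)] at h3
        exact (Nat.prime_dvd_prime_iff_eq hp Nat.prime_two).1 h3)
      cases b <;> cases c
      · rfl
      · exact absurd e' (fun h => h2 h.symm)
      · exact absurd e' h2
      · rfl
  -- translations at a point
  have htrans : ∀ z ∈ Sset hF,
      Nat.card {g : PGL(2, F) // g ∈ Γ ∧ g ^ p = 1 ∧ g • z = z} ≤ κ := by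
    intro z hz
    obtain ⟨t, ht⟩ := exists_move_Sset hF hz
    set y := (t⁻¹).1 • x with hy
    have hκy : Nat.card (Kset hF y) = κ := card_Kset_eq hF S x y
    rw [← hκy]
    have hmem : ∀ g : {g : PGL(2, F) // g ∈ Γ ∧ g ^ p = 1 ∧ g • z = z},
        ∃ a ∈ Kset hF y, gam hF t⁻¹ * g.1 * (gam hF t⁻¹)⁻¹ = aff 1 a := by
      rintro ⟨g, hg, hgp, hgz⟩
      refine translation_mem hF (conj_mem_Gam hF hg t⁻¹) (p := p) ?_ ?_
      · rw [conj_pow, hgp]; group
      · rw [map_inv, inv_inv, mul_smul, mul_smul, ht, hgz, inv_smul_eq_iff, ht]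
    choose a ha hae using hmem
    refine Nat.card_le_card_of_injective (fun g => (⟨a g, ha g⟩ : Kset hF y)) fun g g' e => ?_
    have h1 := hae g
    rw [show a g = a g' from congrArg Subtype.val e, ← hae g'] at h1
    exact Subtype.ext (mul_left_cancel (mul_right_cancel h1))
  have hsub : ∀ (F₀ : Subfield F) (h : PGL(2, F)),
      (∀ s : PGL(2, F₀), s ∈ lsub F₀ → h * subPGL F₀ s * h⁻¹ ∈ Γ) →
      (∀ g ∈ Γ, ∃ s : PGL(2, F₀), g = h * subPGL F₀ s * h⁻¹) → False := by
    intro F₀ h hlo hhi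
    have hT := (subfield_trans (p := p) F₀ h Γ hlo hhi).2
    choose hw' f hf hfm using fun z : Sset hF => hT z.1 (γ z) (hγΓ z) (hγ1 z) (hγp z) (hγz z)
    choose w hw using hw'
    have h1 : q + 1 ≤ Nat.card F₀ + 1 := by
      rw [← card_Sset hF, ← Finite.card_option]
      have : Finite (OnePoint F₀) := inferInstanceAs (Finite (Option F₀))
      exact Nat.card_le_card_of_injective (β := OnePoint F₀) w fun z z' e => Subtype.ext (by
        rw [hw z, hw z', e])
    have h2 : Nat.card F₀ ≤ κ := le_trans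
      (Nat.card_le_card_of_injective (fun t => (⟨f ⟨∞, hiS⟩ t, hfm ⟨∞, hiS⟩ t⟩ :
          {g : PGL(2, F) // g ∈ Γ ∧ g ^ p = 1 ∧ g • (∞ : OnePoint F) = ∞}))
        fun t t' e => hf _ (congrArg Subtype.val e)) (htrans _ hiS)
    omega
  have hsmall : ∀ {G : Type} [Group G], (Γ ≃* G) → p ≠ 2 →
      (q + 1) * 2 ≤ Nat.card {g : G // g ^ p = 1 ∧ g ≠ 1} := by
    intro G _ e hp2
    refine (hcount hp2).trans (le_of_eq (Nat.card_congr (e.toEquiv.subtypeEquiv fun g => ?_)))
    change g ^ p = 1 ∧ g ≠ 1 ↔ e g ^ p = 1 ∧ e g ≠ 1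
    rw [← map_pow, MulEquiv.map_eq_one_iff, Ne, Ne, MulEquiv.map_eq_one_iff]
  have hk2 : p ≠ 2 → 9 ≤ q ∧ (p = 3 → q = 9 ∨ 27 ≤ q) ∧ (p = 5 → 25 ≤ q) := by
    intro hp2
    have hk : 2 ≤ k := by
      by_contra hh
      interval_cases k
      · rw [hqp, pow_zero] at hq; omega
      · rw [hqp, pow_one] at hκd
        rcases (Nat.dvd_prime hp).1 hκd with h | h
        · omega
        · rw [hqp, pow_one] at hκq; omega
    refine ⟨?_, ?_, ?_⟩
    · calc 9 = 3 ^ 2 := rfl
        _ ≤ p ^ 2 := Nat.pow_le_pow_left (by have := hp.two_le; omega) 2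
        _ ≤ p ^ k := Nat.pow_le_pow_right hp.pos hk
        _ = q := hqp.symm
    · rintro rfl
      rcases eq_or_lt_of_le hk with h | h
      · left; rw [hqp, ← h]; norm_num
      · right; rw [hqp]
        exact le_of_eq_of_le (by norm_num) (Nat.pow_le_pow_right (show 0 < 3 by norm_num) h)
    · rintro rfl
      rw [hqp]
      exact le_of_eq_of_le (by norm_num) (Nat.pow_le_pow_right (show 0 < 5 by norm_num) hk)
  rcases classifyF (K := AlgebraicClosure F) (p := p) Γ with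
    ⟨a, b, mm, hpn, -, -, -, -⟩ | ⟨a, b, mm, n, hab, hle, -, -, -, -, -⟩ | ⟨x₀, hfix, -⟩ |
    ⟨hp2, hc', ⟨iso⟩⟩ | ⟨hp2, hc', ⟨iso⟩⟩ | ⟨hp2, hc', ⟨iso⟩⟩ | ⟨F₀, h, -, he⟩ |
    ⟨F₀, h, -, -, he⟩
  · exact absurd hpdvd hpn
  · have : CharP (AlgebraicClosure F) p :=
      charP_of_injective_algebraMap (algebraMap F (AlgebraicClosure F)).injective p
    have hnofix : ∀ g ∈ Γ, g ≠ 1 → g ^ p = 1 →
        ¬ (emb (AlgebraicClosure F) g • a = a ∧ emb (AlgebraicClosure F) g • b = b) := by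
      intro g _ hg1 hgp h'
      refine hab.1 (fixed_unique (p := p) ?_ (by rw [← map_pow, hgp, map_one]) h'.1 h'.2)
      rw [Ne, ← map_one (emb (F := F) (AlgebraicClosure F))]
      exact fun e => hg1 (emb_injective e)
    let K' : Finset F := Finset.univ.filter fun c => c ∈ Kset hF x
    have htr1 : ∀ c ∈ Kset hF x, aff (1 : Fˣ) c ∈ Γ := fun c ⟨hc, hcf⟩ =>
      (mem_Gam hF).2 ⟨⟨zc hF ⟨c, hc⟩, zc_mem hF _⟩, hcf, gam_zc hF _⟩
    have hswap : ∀ c ∈ Kset hF x, c ≠ 0 →
        emb (AlgebraicClosure F) (aff (1 : Fˣ) c) • a = b ∧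
          emb (AlgebraicClosure F) (aff (1 : Fˣ) c) • b = a := fun c hc hc0 =>
      (hle (htr1 c hc)).resolve_left (hnofix _ (htr1 c hc)
        (fun e => hc0 (aff_eq_one_iff.1 e).2) (aff_pow_char_eq_one_iff.2 rfl))
    have hsum : ∀ c ∈ Kset hF x, ∀ d ∈ Kset hF x, c ≠ 0 → d ≠ 0 → c + d = 0 := by
      intro c hc d hd hc0 hd0
      by_contra hne
      have hcd := (Kset hF x).add_mem hc hd
      refine hnofix _ (htr1 _ hcd) (fun e => hne (aff_eq_one_iff.1 e).2)
        (aff_pow_char_eq_one_iff.2 rfl) ?_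
      rw [show aff (1 : Fˣ) (c + d) = aff 1 c * aff 1 d by
        rw [aff_mul, one_mul, Units.val_one, one_mul, add_comm], map_mul, mul_smul, mul_smul,
        (hswap d hd hd0).1, (hswap d hd hd0).2]
      exact ⟨(hswap c hc hc0).2, (hswap c hc hc0).1⟩
    obtain ⟨c, hc, hc0⟩ := (AddSubgroup.bot_or_exists_ne_zero _).resolve_left hK
    have h2 : (2 : F) = 0 := by
      have := hsum c hc c hc hc0 hc0
      rw [← two_mul] at this
      exact (mul_eq_zero.1 this).resolve_right hc0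
    refine Or.inl ⟨h2, le_antisymm ?_ hκ1⟩
    have hle2 : (Kset hF x : Set F) ⊆ {0, c} := by
      intro d hd
      rcases eq_or_ne d 0 with rfl | hd0
      · exact Or.inl rfl
      · right
        have := hsum c hc d hd hc0 hd0
        change d = c
        linear_combination this - c * h2
    have := Set.ncard_le_ncard hle2 (Set.toFinite _)
    rwa [Set.ncard_pair (Ne.symm hc0), ← Nat.card_coe_set_eq] at this
  · exfalso
    obtain ⟨z, w, hzw⟩ := hne2
    refine hzw (Subtype.ext ?_)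
    rw [fixed_unique (p := p) (hγ1 z) (hγp z) (hγz z) (hfix _ (hγΓ z)),
      fixed_unique (p := p) (hγ1 w) (hγp w) (hγz w) (hfix _ (hγΓ w))]
  · exfalso
    have h := hsmall iso hp2
    have h' : Nat.card {g : alternatingGroup (Fin 4) // g ^ p = 1 ∧ g ≠ 1} ≤
        Nat.card (alternatingGroup (Fin 4)) := Finite.card_subtype_le _
    rw [← Nat.card_congr iso.toEquiv, hc'] at h'
    have := (hk2 hp2).1
    omega
  · exfalso
    have h := hsmall iso hp2
    rw [hc'] at hpdvd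
    obtain rfl : p = 3 := by
      rw [show (24 : ℕ) = 2 ^ 3 * 3 from rfl, hp.dvd_mul] at hpdvd
      rcases hpdvd with h' | h'
      · exact absurd ((Nat.prime_dvd_prime_iff_eq hp Nat.prime_two).1 (hp.dvd_of_dvd_pow h')) hp2
      · exact (Nat.prime_dvd_prime_iff_eq hp Nat.prime_three).1 h'
    have e : Nat.card {σ : Equiv.Perm (Fin 4) // σ ^ 3 = 1 ∧ σ ≠ 1} = 8 := by
      rw [Nat.card_eq_fintype_card]; decide +kernel
    rw [e] at h
    omega
  · right
    have h := hsmall iso hp2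
    rw [hc'] at hpdvd
    have hp35 : p = 3 ∨ p = 5 := by
      rw [show (60 : ℕ) = 2 ^ 2 * (3 * 5) from rfl, hp.dvd_mul, hp.dvd_mul] at hpdvd
      rcases hpdvd with h' | h' | h'
      · exact absurd ((Nat.prime_dvd_prime_iff_eq hp Nat.prime_two).1 (hp.dvd_of_dvd_pow h')) hp2
      · exact Or.inl ((Nat.prime_dvd_prime_iff_eq hp Nat.prime_three).1 h')
      · exact Or.inr ((Nat.prime_dvd_prime_iff_eq hp (by norm_num)).1 h')
    rcases hp35 with rfl | rfl
    · have e : Nat.card {σ : alternatingGroup (Fin 5) // σ ^ 3 = 1 ∧ σ ≠ 1} = 20 := by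
        rw [Nat.card_eq_fintype_card]; decide +kernel
      rw [e] at h
      obtain rfl : q = 9 := ((hk2 hp2).2.1 rfl).resolve_right (by omega)
      refine ⟨rfl, ?_⟩
      rw [show (9 : ℕ) = 3 ^ 2 from rfl, Nat.dvd_prime_pow Nat.prime_three] at hκd
      obtain ⟨j, hj, hj'⟩ := hκd
      interval_cases j <;> omega
    · exfalso
      have e : Nat.card {σ : alternatingGroup (Fin 5) // σ ^ 5 = 1 ∧ σ ≠ 1} = 24 := by
        rw [Nat.card_eq_fintype_card]; decide +kernel
      rw [e] at h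
      have := (hk2 hp2).2.2 rfl
      omega
  · exact (hsub F₀ h (fun s _ => by
      have hm : subPGL F₀ s ∈ Γ.map (MulAut.conj h⁻¹).toMonoidHom := by rw [he]; exact ⟨s, rfl⟩
      obtain ⟨δ, hδ, e⟩ := hm
      rw [← e]; simpa [mul_assoc] using hδ) (fun g hg => by
      have hm : h⁻¹ * g * h ∈ (subPGL F₀).range := by rw [← he]; exact ⟨g, hg, by simp⟩
      obtain ⟨s, hs⟩ := hm
      exact ⟨s, by rw [hs]; group⟩)).elim
  · exact (hsub F₀ h (fun s hs => by
      have hm : subPGL F₀ s ∈ Γ.map (MulAut.conj h⁻¹).toMonoidHom := by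
        rw [he, range_subPSL]; exact ⟨s, hs, rfl⟩
      obtain ⟨δ, hδ, e⟩ := hm
      rw [← e]; simpa [mul_assoc] using hδ) (fun g hg => by
      have hm : h⁻¹ * g * h ∈ (subPSL F₀).range := by rw [← he]; exact ⟨g, hg, by simp⟩
      rw [range_subPSL] at hm
      obtain ⟨s, -, hs⟩ := hm
      exact ⟨s, by rw [hs]; group⟩)).elim

end Cfsg.Agent.MinU.Three
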