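/-
The four small fields left by the projective line: excluded by Sylow arguments.
-/
import Mathlib
import Cfsg.Agent.MinU.ThreeShape
import Cfsg.Agent.MinU.ThreePlane
import Cfsg.Agent.MaxSub.Dickson.Small

set_option autoImplicit false

namespace Cfsg.Agent.MinU.Three

open Cfsg.Agent.Classical.U Cfsg.Agent.MinU MulAction
open scoped Cfsg.Agent.MaxSub.Dickson OnePoint MatrixGroups

universe u v

variable {F : Type u} [Field F] {q : ℕ}
variable (hF : SqField F q)
include hF

omit hF in
/-- The fixed lines of an element. -/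
def fixL (u : SG 1 F q) : Set (Ln F q) := {L | u • L = L}

theorem card_fixL_conj (h u : SG 1 F q) :
    Nat.card (fixL (h * u * h⁻¹)) = Nat.card (fixL u) := by
  refine (Nat.card_congr ((MulAction.toPerm h).subtypeEquiv fun L => ?_)).symm
  change u • L = L ↔ (h * u * h⁻¹) • h • L = h • L
  rw [mul_smul, mul_smul, inv_smul_smul]
  exact ⟨fun e => by rw [e], fun e => MulAction.injective h e⟩

theorem card_fixL_tE {p : Heis 1 F q} (hp : p ≠ hOne hF) :
    Nat.card (fixL (tE hF p)) = 1 := by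
  rw [Nat.card_eq_one_iff_unique]
  exact ⟨⟨fun L L' => Subtype.ext ((eq_Le_of_tE hF hp L.2).trans (eq_Le_of_tE hF hp L'.2).symm)⟩,
    ⟨⟨Le hF, tE_smul_Le hF p⟩⟩⟩

theorem fixL_lv_cases {l : Fˣ} (hmu : mu q l ≠ 1) {L : Ln F q} (h : lv hF l • L = L) :
    L = Le hF ∨ ∃ a : skew hF, L = Lp hF (hZ hF a.2) ∧ (nu q l : F) * a = a := by
  refine (Ln_cases hF L).imp_right ?_
  rintro ⟨p, rfl⟩
  rw [lv_smul_Lp] at h
  have e := Lp_injective hF h
  have e1 := congrArg (fun r : Heis 1 F q => r.1.1) e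
  have e2 := congrArg (fun r : Heis 1 F q => r.1.2) e
  change (mu q l : F) • p.1.1 = p.1.1 at e1
  change (nu q l : F) * p.1.2 = p.1.2 at e2
  have hv : p.1.1 = 0 := by
    by_contra hne
    exact hmu (Units.ext (smul_left_injective F hne (e1.trans (one_smul F p.1.1).symm)))
  obtain ⟨a, ha, -⟩ := exists_zc hF hv
  refine ⟨a, congrArg (Lp hF) (Subtype.ext (Prod.ext hv ha.symm)), ?_⟩
  rw [ha]; exact e2

theorem card_fixL_regular {l : Fˣ} (hmu : mu q l ≠ 1) (hnu : nu q l ≠ 1) (p : Heis 1 F q) :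
    Nat.card (fixL (tE hF p * lv hF l)) = 2 := by
  obtain ⟨s, e⟩ := exists_conj_lv hF hmu hnu p
  rw [e, card_fixL_conj hF]
  rw [Nat.card_eq_two_iff]
  refine ⟨⟨Le hF, lv_smul_Le hF l⟩, ⟨Lf hF, lv_smul_Lf hF l⟩, fun h => ?_,
    Set.eq_univ_of_forall fun L => ?_⟩
  · have : Le hF = Lf hF := congrArg Subtype.val h
    rw [← Lp_one hF] at this
    exact Lp_ne_Le hF _ this.symm
  · rcases fixL_lv_cases hF hmu L.2 with h | ⟨a, h, ha⟩
    · exact Or.inl (Subtype.ext h)
    · refine Or.inr (Subtype.ext ?_)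
      have ha0 : (a : F) = 0 := by
        by_contra hne
        exact hnu (Units.ext ((mul_eq_right₀ hne).1 ha))
      rw [h]
      change Lp hF _ = Lf hF
      rw [← Lp_one hF]
      exact congrArg (Lp hF) (Subtype.ext (Prod.ext rfl ha0))

theorem card_fixL_block {l : Fˣ} (hmu : mu q l ≠ 1) (hnu : nu q l = 1) :
    Nat.card (fixL (lv hF l)) = q + 1 := by
  obtain ⟨hfin, -⟩ := id hF
  have hfix : ∀ a : skew hF, lv hF l • Lp hF (hZ hF a.2) = Lp hF (hZ hF a.2) := fun a => by
    rw [lv_smul_Lp]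
    exact congrArg (Lp hF) (Subtype.ext (Prod.ext (by simp [hl, hZ]) (by simp [hl, hZ, hnu])))
  rw [show q + 1 = Nat.card (Option (skew hF)) by rw [Finite.card_option, card_skew hF]]
  refine (Nat.card_congr (Equiv.ofBijective (fun o : Option (skew hF) => (match o with
    | none => ⟨Le hF, lv_smul_Le hF l⟩
    | some a => ⟨Lp hF (hZ hF a.2), hfix a⟩ : fixL (lv hF l))) ⟨?_, fun L => ?_⟩)).symm
  · rintro (_ | a) (_ | b) h
    · rfl
    · exact absurd (congrArg Subtype.val h) (Lp_ne_Le hF _).symm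
    · exact absurd (congrArg Subtype.val h) (Lp_ne_Le hF _)
    · have := Lp_injective hF (congrArg Subtype.val h)
      exact congrArg some (Subtype.ext (congrArg (fun r : Heis 1 F q => r.1.2) this))
  · rcases fixL_lv_cases hF hmu L.2 with h | ⟨a, h, -⟩
    · exact ⟨none, Subtype.ext h.symm⟩
    · exact ⟨some a, Subtype.ext h.symm⟩

/-- An element of prime order without fixed lines cuts invariant sets into full orbits. -/
theorem dvd_invariant {r : ℕ} [Fact r.Prime] {g : SG 1 F q} (hg : g ^ r = 1)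
    (hnf : ∀ L : Ln F q, g • L ≠ L) {T : Set (Ln F q)} (hT : ∀ L ∈ T, g • L ∈ T) :
    r ∣ Nat.card T := by
  obtain ⟨hfin, -⟩ := id hF
  have := finite_SG hF
  have hU : IsPGroup r (Subgroup.zpowers g) := by
    rintro ⟨a, i, rfl⟩
    refine ⟨1, Subtype.ext ?_⟩
    change (g ^ i) ^ (r ^ 1) = 1
    rw [pow_one, ← zpow_natCast, ← zpow_mul, mul_comm, zpow_mul, zpow_natCast, hg, one_zpow]
  classical
  have hmem : ∀ k ∈ Subgroup.zpowers g, ∀ L ∈ T, k • L ∈ T := by
    intro k hk L hL
    rw [mem_zpowers_iff_mem_range_orderOf, Finset.mem_image] at hk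
    obtain ⟨i, -, rfl⟩ := hk
    induction i generalizing L with
    | zero => rwa [pow_zero, one_smul]
    | succ i ih => rw [pow_succ, mul_smul]; exact ih _ (hT L hL)
  let _ : MulAction (Subgroup.zpowers g) T :=
    { smul := fun k L => ⟨k.1 • L.1, hmem _ k.2 _ L.2⟩
      one_smul := fun L => Subtype.ext (one_smul _ _)
      mul_smul := fun k k' L => Subtype.ext (mul_smul _ _ _) }
  have : Finite (Ln F q) := Nat.finite_of_card_ne_zero (by rw [card_Ln hF]; omega)
  have h := hU.card_modEq_card_fixedPoints T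
  have : IsEmpty (fixedPoints (Subgroup.zpowers g) T) :=
    ⟨fun L => hnf L.1.1 (congrArg Subtype.val (L.2 ⟨g, Subgroup.mem_zpowers g⟩))⟩
  rw [Nat.card_of_isEmpty (α := fixedPoints (Subgroup.zpowers g) T)] at h
  exact Nat.modEq_zero_iff_dvd.1 h

theorem dvd_fixL {r : ℕ} [Fact r.Prime] {g u : SG 1 F q} (hg : g ^ r = 1)
    (hnf : ∀ L : Ln F q, g • L ≠ L) (hcomm : u * g = g * u) : r ∣ Nat.card (fixL u) :=
  dvd_invariant hF hg hnf fun L (hL : u • L = L) => by
    change u • g • L = g • L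
    rw [← mul_smul, hcomm, mul_smul, hL]

variable {X : Type v} [UAct F q X 1]
variable (S : Setting F q X)
include S

/-- An element of the point stabiliser of order prime to the line stabiliser fixes no line. -/
theorem no_fix {x : X} {g : SG 1 F q} (hgx : g • x = x) {r : ℕ} [hr : Fact r.Prime]
    (hg : orderOf g = r)
    (hnd : ¬ r ∣ Nat.card (Aset hF x) * Nat.card (Kset hF x) * Nat.card (Cs hF x)) (L : Ln F q) :
    g • L ≠ L := by
  obtain ⟨hfin, -⟩ := id hF
  have := finite_SG hF
  intro hL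
  obtain ⟨h, hhx, hhL⟩ := line_trans hF S x L
  have h1 : h * g * h⁻¹ ∈ stabilizer (SG 1 F q) (Le hF) := by
    change (h * g * h⁻¹) • Le hF = Le hF
    rw [mul_smul, mul_smul, inv_smul_eq_iff.2 hhL.symm, hL, hhL]
  have h2 : (h * g * h⁻¹) • x = x := by
    rw [mul_smul, mul_smul, inv_smul_eq_iff.2 hhx.symm, hgx, hhx]
  have h3 := orderOf_dvd_natCard (⟨⟨_, h1⟩, h2⟩ : stabilizer (↥(Bor hF)) x)
  rw [← Subgroup.orderOf_coe, ← Subgroup.orderOf_coe, card_stabBor hF] at h3
  change orderOf (h * g * h⁻¹) ∣ _ at h3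
  rw [show h * g * h⁻¹ = MulAut.conj h g from rfl, MulEquiv.orderOf_eq, hg] at h3
  exact hnd h3

/-- An element fixing a line is conjugate into the stabiliser of the first line. -/
theorem to_Bor {x : X} {u : SG 1 F q} (hux : u • x = x) {L : Ln F q} (hL : u • L = L) :
    ∃ (h : SG 1 F q) (p : Heis 1 F q) (l : Fˣ), h • x = x ∧ h * u * h⁻¹ = tE hF p * lv hF l ∧
      (tE hF p * lv hF l) • x = x := by
  obtain ⟨h, hhx, hhL⟩ := line_trans hF S x L
  obtain ⟨p, l, e⟩ := exists_decomp_Bor hF (g := h * u * h⁻¹) (by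
    rw [mul_smul, mul_smul, inv_smul_eq_iff.2 hhL.symm, hL, hhL])
  refine ⟨h, p, l, hhx, e, ?_⟩
  rw [← e, mul_smul, mul_smul, inv_smul_eq_iff.2 hhx.symm, hux, hhx]

omit S in
theorem pow_of_conj {h u : SG 1 F q} {p : Heis 1 F q} {l : Fˣ}
    (e : h * u * h⁻¹ = tE hF p * lv hF l) {s : ℕ} (hu : u ^ s = 1) : l ^ s = 1 := by
  have hB : tE hF p * lv hF l ∈ Bor hF := decomp_mem hF p l
  have h1 : (⟨_, hB⟩ : ↥(Bor hF)) ^ s = 1 := Subtype.ext (by
    change (tE hF p * lv hF l) ^ s = 1
    rw [← e, conj_pow, hu]; group)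
  have h2 := congrArg (piB hF) h1
  rwa [map_pow, piB_mk, map_one] at h2

/-- A Sylow subgroup of prime order in the point stabiliser. -/
theorem sylow_setup {x : X} {r n : ℕ} [Fact r.Prime]
    (hcard : Nat.card (stabilizer (SG 1 F q) x) = r * n) (hrn : ¬ r ∣ n)
    (hnd : ¬ r ∣ Nat.card (Aset hF x) * Nat.card (Kset hF x) * Nat.card (Cs hF x)) :
    ∃ (P : Sylow r (stabilizer (SG 1 F q) x)) (a : stabilizer (SG 1 F q) x), a ∈ P.1 ∧
      Nat.card P = r ∧ (a : SG 1 F q) ^ r = 1 ∧ (∀ L : Ln F q, (a : SG 1 F q) • L ≠ L) ∧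
      Nat.card (Subgroup.normalizer ((P : Subgroup (stabilizer (SG 1 F q) x)) : Set (stabilizer (SG 1 F q) x))) *
        Nat.card (Sylow r (stabilizer (SG 1 F q) x)) = r * n ∧
      r ∣ Nat.card (Subgroup.normalizer ((P : Subgroup (stabilizer (SG 1 F q) x)) : Set (stabilizer (SG 1 F q) x))) ∧
      Nat.card (Sylow r (stabilizer (SG 1 F q) x)) % r = 1 := by
  obtain ⟨hfin, -⟩ := id hF
  have := finite_SG hF
  have P : Sylow r (stabilizer (SG 1 F q) x) := default
  have hP := MaxSub.Dickson.card_sylow_of_pow hcard hrn P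
  obtain ⟨a, haP, hao⟩ := MaxSub.Dickson.exists_orderOf_sylow P hP
  refine ⟨P, a, haP, hP, ?_, no_fix hF S a.2 (by rw [Subgroup.orderOf_coe, hao]) hnd, ?_, ?_, ?_⟩
  · rw [← Subgroup.coe_pow, ← hao, pow_orderOf_eq_one, Subgroup.coe_one]
  · rw [P.card_eq_index_normalizer]
    exact (Subgroup.card_mul_index _).trans hcard
  · have h := Subgroup.card_dvd_of_le
      (Subgroup.le_normalizer (H := (P : Subgroup (stabilizer (SG 1 F q) x))))
    change Nat.card P ∣ _ at h
    rwa [hP] at h
  · have h : _ % r = 1 % r := card_sylow_modEq_one r (stabilizer (SG 1 F q) x)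
    rwa [Nat.one_mod_eq_one.2 (Fact.out : r.Prime).ne_one] at h

omit hF S in
/-- Commuting lifts to the ambient group. -/
theorem coe_comm {x : X} {a b : stabilizer (SG 1 F q) x} (h : Commute b a) :
    (b : SG 1 F q) * a = a * b := congrArg Subtype.val h.eq

omit hF S in
theorem orderOf_pow_eq {G : Type*} [Group G] {b : G} {s : ℕ} (h : orderOf b = s) : b ^ s = 1 := by
  rw [← h, pow_orderOf_eq_one]

set_option maxHeartbeats 800000 in
/-- The field of nine elements, regular shape. -/
theorem three_three_absurd (hq : q = 3) {x : X} (hA : Aset hF x = ⊥) (hK : Kset hF x = ⊥)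
    (hlv : ∀ l : Fˣ, lv hF l • x = x) : False := by
  obtain ⟨hfin, hcard⟩ := id hF
  have := finite_SG hF
  have := Fact.mk (show Nat.Prime 7 by norm_num)
  have := Fact.mk Nat.prime_two
  have hc := regular_shape hF S hA hK
  have hac : Nat.card (Aset hF x) * Nat.card (Kset hF x) * Nat.card (Cs hF x) = 8 := by
    rw [hA, hK, hc, AddSubgroup.card_bot, AddSubgroup.card_bot, Subgroup.card_top, one_mul,
      one_mul]
    classical
    have := Fintype.ofFinite F
    rw [Nat.card_eq_fintype_card, Fintype.card_units, ← Nat.card_eq_fintype_card, hcard, hq]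
    norm_num
  have hH := card_stab hF S x
  rw [hac] at hH
  replace hH : Nat.card (stabilizer (SG 1 F q) x) = 224 := by rw [hH, hq]; norm_num
  obtain ⟨P, a, haP, hP, ha, hnf, hmul, hdvd, hmod⟩ :=
    sylow_setup hF S (x := x) (r := 7) (n := 32) (hH.trans (by norm_num)) (by norm_num)
      (by rw [hac]; norm_num)
  set N := Subgroup.normalizer ((P : Subgroup (stabilizer (SG 1 F q) x)) : Set (stabilizer (SG 1 F q) x)) with hN
  set n := Nat.card (Sylow 7 (stabilizer (SG 1 F q) x)) with hn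
  have h4 : 4 ∣ Nat.card N := by
    have hnd : n ∣ 32 := by
      refine Nat.Coprime.dvd_of_dvd_mul_left (m := 7) ?_ ⟨Nat.card N, by rw [← hmul]; ring⟩
      rw [Nat.coprime_comm, Nat.Prime.coprime_iff_not_dvd (by norm_num)]
      omega
    have hn32 := Nat.le_of_dvd (by norm_num) hnd
    rcases (show n = 1 ∨ n = 8 by interval_cases n <;> omega) with h | h <;> rw [h] at hmul <;> omega
  -- an involution centralising the Sylow subgroup
  have hcyc : IsCyclic P := isCyclic_of_prime_card hP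
  let φ : N →* MulAut P := Subgroup.normalizerMonoidHom (P : Subgroup (stabilizer (SG 1 F q) x))
  have hk2 : 2 ∣ Nat.card φ.ker := by
    have h1 : Nat.card φ.range ∣ 6 := by
      have := Subgroup.card_subgroup_dvd_card φ.range
      rwa [IsCyclic.card_mulAut, hP, Nat.totient_prime (by norm_num)] at this
    have h2 := Subgroup.card_mul_index φ.ker
    rw [Subgroup.index_ker] at h2
    rw [← h2] at h4
    have h3 : Nat.card φ.range ≤ 6 := Nat.le_of_dvd (by norm_num) h1
    interval_cases hh : Nat.card φ.range <;> omega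
  obtain ⟨b, hb⟩ := exists_prime_orderOf_dvd_card' 2 hk2
  have hcomm : (b.1.1 : SG 1 F q) * a = a * b.1.1 := by
    refine coe_comm ?_
    have e : φ b.1 = 1 := b.2
    have e' := congrArg (fun f : MulAut P => ((f ⟨a, haP⟩ : P) : stabilizer (SG 1 F q) x)) e
    simp [φ] at e'
    exact mul_inv_eq_iff_eq_mul.1 e'
  have hbo : orderOf (b.1.1.1 : SG 1 F q) = 2 := by
    rw [Subgroup.orderOf_coe, Subgroup.orderOf_coe, Subgroup.orderOf_coe, hb]
  set t : SG 1 F q := b.1.1.1 with ht
  obtain ⟨L, hL⟩ := exists_fixed_of_invol hF (g := t) (by rw [← sq]; exact orderOf_pow_eq hbo)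
  obtain ⟨h, p, l, hhx, e, hpx⟩ := to_Bor hF S (show t • x = x from b.1.1.2) hL
  rw [mul_smul, hlv] at hpx
  have hp : p = hOne hF := by
    have hv : p.1.1 = 0 := by
      have : p.1.1 ∈ Aset hF x := ⟨p, rfl, hpx⟩
      rwa [hA, AddSubgroup.mem_bot] at this
    have h0 := sub_mem_Kset hF (p := p) (s := hOne hF) hv hpx (by rw [tE_one, one_smul])
    rw [hK, AddSubgroup.mem_bot, sub_eq_zero] at h0
    exact Subtype.ext (Prod.ext hv h0)
  rw [hp, tE_one, one_mul] at e
  have hl2 : l ^ 2 = 1 :=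
    pow_of_conj hF (h := h) (u := t) (p := hOne hF) (by rw [tE_one, one_mul]; exact e) (orderOf_pow_eq hbo)
  have hl1 : l ≠ 1 := by
    rintro rfl
    rw [map_one, mul_inv_eq_one, mul_eq_left] at e
    rw [e, orderOf_one] at hbo
    omega
  have hnu : nu q l = 1 := by
    change l ^ (q + 1) = 1
    rw [hq, show (3 + 1) = 2 * 2 from rfl, pow_mul, hl2, one_pow]
  have hmu : mu q l ≠ 1 := by
    change l ^ q * (l ^ q * l⁻¹) ≠ 1
    rw [hq, show l ^ 3 = l by rw [pow_succ, hl2, one_mul], mul_inv_cancel, mul_one]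
    exact hl1
  have h1 := dvd_fixL hF (r := 7) ha hnf (u := t) hcomm
  rw [← card_fixL_conj hF h, e, card_fixL_block hF hmu hnu, hq] at h1
  omega

set_option maxHeartbeats 800000 in
/-- The field of sixty-four elements, with a centre part. -/
theorem three_eight_absurd (hq : q = 8) {x : X}
    (hac : Nat.card (Aset hF x) * Nat.card (Kset hF x) * Nat.card (Cs hF x) = 72)
    (hC : ∀ l ∈ Cs hF x, l ^ 9 = 1) : False := by
  obtain ⟨hfin, hcard⟩ := id hF
  have := finite_SG hF
  have := Fact.mk (show Nat.Prime 19 by norm_num)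
  have := Fact.mk Nat.prime_two
  have hH := card_stab hF S x
  rw [hac] at hH
  replace hH : Nat.card (stabilizer (SG 1 F q) x) = 36936 := by rw [hH, hq]; norm_num
  obtain ⟨P, a, haP, hP, ha, hnf, hmul, hdvd, hmod⟩ :=
    sylow_setup hF S (x := x) (r := 19) (n := 1944) (hH.trans (by norm_num)) (by norm_num)
      (by rw [hac]; norm_num)
  have h2 : (2 : F) = 0 := by
    have := Fintype.ofFinite F
    obtain ⟨p, k, hp, hchar, hqp⟩ := hF.exists_char
    have hp2 : p = 2 := by
      have : p ∣ 2 ^ 3 := by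
        rw [show (2 : ℕ) ^ 3 = 8 from rfl, ← hq, hqp]
        exact dvd_pow_self p (by rintro rfl; rw [pow_zero] at hqp; omega)
      exact (Nat.prime_dvd_prime_iff_eq hp Nat.prime_two).1 (hp.dvd_of_dvd_pow this)
    subst hp2
    exact_mod_cast CharP.cast_eq_zero F 2
  -- an involution is a transvection
  have hinv : ∀ t : SG 1 F q, t • x = x → t ^ 2 = 1 → t ≠ 1 →
      ∃ (h : SG 1 F q) (k : skew hF), (k : F) ≠ 0 ∧ h * t * h⁻¹ = zc hF k := by
    intro t htx ht2 ht1
    obtain ⟨L, hL⟩ := exists_fixed_of_invol hF (g := t) (by rw [← sq]; exact ht2)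
    obtain ⟨h, p, l, hhx, e, hpx⟩ := to_Bor hF S htx hL
    have hl9 := hC l ((mem_Cs hF).2 ⟨p, hpx⟩)
    have hl2 := pow_of_conj hF e ht2
    obtain rfl : l = 1 := by
      have : l ^ 9 = (l ^ 2) ^ 4 * l := by group
      rw [hl9, hl2, one_pow, one_mul] at this
      exact this.symm
    rw [map_one, mul_one] at e
    have hpp : tE hF (hMul hF p p) = 1 := by
      rw [← tE_mul, ← e, ← sq, conj_pow, ht2]; group
    rw [← tE_one hF] at hpp
    have h3 := congrArg (fun r : Heis 1 F q => r.1.2) (tE_injective hF hpp)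
    change p.1.2 + p.1.2 - herm q p.1.1 p.1.1 = 0 at h3
    have hv : p.1.1 = 0 := eq_zero_of_norm hF (by linear_combination -h3 + p.1.2 * h2)
    obtain ⟨k, hk, ek⟩ := exists_zc hF hv
    refine ⟨h, k, fun hk0 => ht1 ?_, by rw [e, ek]⟩
    rw [ek, show k = 0 from Subtype.ext hk0, zc_zero, mul_inv_eq_one, mul_eq_left] at e
    exact e
  have hone : ∀ t : SG 1 F q, t • x = x → t ^ 2 = 1 → t ≠ 1 → Nat.card (fixL t) = 1 := by
    intro t htx ht2 ht1
    obtain ⟨h, k, hk, e⟩ := hinv t htx ht2 ht1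
    rw [← card_fixL_conj hF h, e]
    exact card_fixL_tE hF fun e => hk (congrArg (fun r : Heis 1 F q => r.1.2) e)
  set N := Subgroup.normalizer ((P : Subgroup (stabilizer (SG 1 F q) x)) : Set (stabilizer (SG 1 F q) x)) with hN
  have hodd : ¬ 2 ∣ Nat.card N := by
    intro h2N
    obtain ⟨b, hb⟩ := exists_prime_orderOf_dvd_card' 2 h2N
    have hbo : orderOf (b.1.1 : SG 1 F q) = 2 := by
      rw [Subgroup.orderOf_coe, Subgroup.orderOf_coe, hb]
    set t : SG 1 F q := b.1.1 with ht
    set g : SG 1 F q := a.1 with hg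
    have htx : t • x = x := b.1.2
    have ht2 : t ^ 2 = 1 := orderOf_pow_eq hbo
    have ht1 : t ≠ 1 := fun e => by rw [e, orderOf_one] at hbo; omega
    have htt : t⁻¹ = t := inv_eq_of_mul_eq_one_right (by rw [← sq]; exact ht2)
    have hgo : orderOf g = 19 := by
      exact orderOf_eq_prime ha fun e => hnf (Le hF) (by rw [e, one_smul])
    have hncomm : t * g ≠ g * t := fun hc => by
      have h1 := dvd_fixL hF (r := 19) ha hnf (u := t) hc
      rw [hone t htx ht2 ht1] at h1
      omega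
    -- the involution inverts
    obtain ⟨i, hi⟩ : ∃ i : ℤ, t * g * t⁻¹ = g ^ i := by
      have hzp : Subgroup.zpowers a = (P : Subgroup (stabilizer (SG 1 F q) x)) := by
        refine Subgroup.eq_of_le_of_card_ge (Subgroup.zpowers_le.2 haP) ?_
        rw [Nat.card_zpowers, ← Subgroup.orderOf_coe]
        change Nat.card P ≤ orderOf g
        rw [hP, hgo]
      have hm : b.1 * a * b.1⁻¹ ∈ (P : Subgroup (stabilizer (SG 1 F q) x)) :=
        (Subgroup.mem_normalizer_iff.1 b.2 a).1 haP
      rw [← hzp] at hm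
      obtain ⟨i, hi⟩ := hm
      exact ⟨i, (congrArg Subtype.val hi).symm.trans (by simp [hg])⟩
    have hii : g ^ (i * i) = g := by
      calc g ^ (i * i) = (t * g * t⁻¹) ^ i := by rw [hi, ← zpow_mul]
        _ = t * g ^ i * t⁻¹ := conj_zpow
        _ = t * (t * g * t⁻¹) * t⁻¹ := by rw [hi]
        _ = (t * t) * g * (t * t)⁻¹ := by group
        _ = g := by rw [← sq, ht2]; group
    have hdiv : (19 : ℤ) ∣ i * i - 1 := by
      rw [← show ((orderOf g : ℕ) : ℤ) = 19 by rw [hgo]; rfl, orderOf_dvd_iff_zpow_eq_one,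
        zpow_sub, zpow_one, hii, mul_inv_cancel]
    have hinvg : t * g * t⁻¹ = g⁻¹ := by
      rw [show i * i - 1 = (i - 1) * (i + 1) by ring] at hdiv
      rcases (Int.prime_iff_natAbs_prime.2 (by norm_num) : Prime (19 : ℤ)).dvd_or_dvd hdiv with h | h
      · exfalso
        refine hncomm (mul_inv_eq_iff_eq_mul.1 (hi.trans ?_))
        rw [← show ((orderOf g : ℕ) : ℤ) = 19 by rw [hgo]; rfl, orderOf_dvd_iff_zpow_eq_one,
          zpow_sub, zpow_one, mul_inv_eq_one] at h
        exact h
      · rw [← show ((orderOf g : ℕ) : ℤ) = 19 by rw [hgo]; rfl, orderOf_dvd_iff_zpow_eq_one,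
          zpow_add, zpow_one, mul_eq_one_iff_eq_inv] at h
        rw [hi, h]
    set t' := t * g with ht'
    have ht'x : t' • x = x := by
      rw [ht', mul_smul, show g • x = x from a.2, htx]
    have ht'2 : t' ^ 2 = 1 := by
      calc t' ^ 2 = (t * g * t⁻¹) * (t * t) * g := by rw [ht', sq]; group
        _ = 1 := by rw [hinvg, ← sq, ht2]; group
    have ht'1 : t' ≠ 1 := fun e => by
      rw [ht', mul_eq_one_iff_eq_inv] at e
      rw [e, orderOf_inv] at hbo
      omega
    obtain ⟨h, k, hk, e⟩ := hinv t htx ht2 ht1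
    obtain ⟨h', k', hk', e'⟩ := hinv t' ht'x ht'2 ht'1
    -- move the centre of the second transvection
    set L' := h • h'⁻¹ • Le hF with hL'
    have hfixt' : t' • h'⁻¹ • Le hF = h'⁻¹ • Le hF := by
      rw [eq_inv_smul_iff, ← mul_smul, ← mul_smul, e']
      exact tE_smul_Le hF _
    have hfixt : t • h⁻¹ • Le hF = h⁻¹ • Le hF := by
      rw [eq_inv_smul_iff, ← mul_smul, ← mul_smul, e]
      exact tE_smul_Le hF _
    have hgtt : g = t * t' := by rw [ht', ← mul_assoc, ← sq, ht2, one_mul]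
    obtain ⟨r, hr⟩ : ∃ r, L' = Lp hF r := by
      refine (Ln_cases hF L').resolve_left fun h0 => hnf (h⁻¹ • Le hF) ?_
      change g • h⁻¹ • Le hF = _
      have e0 : h'⁻¹ • Le hF = h⁻¹ • Le hF := eq_inv_smul_iff.2 h0
      rw [hgtt, mul_smul, ← e0, hfixt', e0, hfixt]
    set w := (tE hF r)⁻¹ * h with hw
    set w' := h' * w⁻¹ with hw'
    have hw'L : w' • Lf hF = Le hF := by
      rw [hw', hw, mul_inv_rev, inv_inv, mul_smul, mul_smul,
        show tE hF r • Lf hF = L' from hr.symm, hL', inv_smul_smul, smul_inv_smul]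
    have e1 : w * t * w⁻¹ = zc hF k := by
      calc w * t * w⁻¹ = (tE hF r)⁻¹ * (h * t * h⁻¹) * tE hF r := by rw [hw]; group
        _ = _ := by
          rw [e, zc, tE_inv, tE_mul, tE_mul]
          congr 1
          refine Subtype.ext (Prod.ext ?_ ?_)
          · simp [hMul, hInv, hZ]
          · simp [hMul, hInv, hZ, hF.herm_zero_right, hF.herm_neg_right]
            linear_combination r.2
    have e2 : w * t' * w⁻¹ = w'⁻¹ * zc hF k' * w' := by
      rw [← e', hw']; group
    have hgP : w * g * w⁻¹ ∈ Pl hF := by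
      rw [show w * g * w⁻¹ = (w * t * w⁻¹) * (w * t' * w⁻¹) by rw [hgtt]; group, e1, e2]
      refine mul_mem (zc_mem hF k) ?_
      obtain ⟨h'', e3⟩ := tS_conj hF w'⁻¹ (trvCond_eV hF (m := 1) k'.2)
      rw [inv_inv, tS_eV hF k'.2] at e3
      rw [zc, e3]
      have hm : (w'⁻¹).1.1 (eV hF 1) ∈ (Lf hF).1 := by
        have e4 : mapL w'⁻¹ (Le hF).1 = (Lf hF).1 :=
          congrArg Subtype.val (inv_smul_eq_iff.2 hw'L.symm : w'⁻¹ • Le hF = Lf hF)
        rw [← e4]
        exact Submodule.mem_map_of_mem (Submodule.mem_span_singleton_self _)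
      obtain ⟨c, hc⟩ := Submodule.mem_span_singleton.1 hm
      have key : ∀ (v : Fin (1 + 2) → F) (h' : TrvCond q v (k' : F)) (x y : F),
          v = ph hF 1 ((x, y), 0) → tS hF h' ∈ Pl hF := by
        rintro v h' x y rfl; exact tS_mem hF h'
      refine key _ h'' 0 c ?_
      rw [← hc, ← ph_fV hF, ← map_smul]
      simp
    set T : Set (Ln F q) := {L | ∃ z ∈ Sset hF, L.1 = lineOf hF z} with hT
    have hTcard : Nat.card T = q + 1 := by
      rw [← card_Sset hF]
      refine (Nat.card_congr (Equiv.ofBijective (fun z : Sset hF => (⟨toLn hF z.2, z.1, z.2, rfl⟩ : T))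
        ⟨fun z z' e => Subtype.ext (lineOf_injective hF
          (congrArg (fun L : T => (L.1.1 : Submodule F (Fin (1 + 2) → F))) e)), ?_⟩)).symm
      rintro ⟨L, z, hz, e⟩
      exact ⟨⟨z, hz⟩, Subtype.ext (Subtype.ext e.symm)⟩
    classical
    have h19 := dvd_invariant hF (r := 19) (g := w * g * w⁻¹) (by rw [conj_pow, ha]; group)
      (fun L hL => hnf (w⁻¹ • L) (by
        rw [mul_smul, mul_smul] at hL
        exact eq_inv_smul_iff.2 hL)) (T := T) (fun L => by
        rintro ⟨z, hz, e⟩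
        refine ⟨gam hF ⟨_, hgP⟩ • z, gam_mem_Sset hF _ hz, ?_⟩
        change mapL _ L.1 = _
        rw [e]
        exact mapL_lineOf hF ⟨_, hgP⟩ z)
    rw [hTcard, hq] at h19
    omega
  set n := Nat.card (Sylow 19 (stabilizer (SG 1 F q) x)) with hn
  have hmul' : Nat.card N * n = 36936 := by rw [hmul]
  have h8 : 8 ∣ n := by
    have hc : Nat.Coprime 8 (Nat.card N) := by
      rw [show (8 : ℕ) = 2 ^ 3 from rfl]
      exact Nat.Coprime.pow_left 3 ((Nat.prime_two.coprime_iff_not_dvd).2 hodd)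
    exact hc.dvd_of_dvd_mul_left ⟨4617, by rw [hmul']⟩
  have hnd : n ∣ 1944 := by
    refine Nat.Coprime.dvd_of_dvd_mul_left (m := 19) ?_ ⟨Nat.card N, by rw [mul_comm n, hmul']⟩
    rw [Nat.coprime_comm, Nat.Prime.coprime_iff_not_dvd (by norm_num)]
    omega
  obtain ⟨j, hj⟩ := h8
  have hj2 : j ∣ 243 := by
    rw [hj, show (1944 : ℕ) = 8 * 243 from rfl] at hnd
    exact Nat.dvd_of_mul_dvd_mul_left (by norm_num) hnd
  have hjle := Nat.le_of_dvd (by norm_num) hj2
  have key : ∀ j < 244, j ∣ 243 → 8 * j % 19 ≠ 1 := by decide +kernel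
  exact key j (by omega) hj2 (by rw [← hj]; exact hmod)

set_option maxHeartbeats 800000 in
/-- The field of eighty-one elements, with a centre part. -/
theorem three_nine_absurd (hq : q = 9) {x : X} (hA : Nat.card (Aset hF x) = 9)
    (hK : Nat.card (Kset hF x) = 3) (hC : Nat.card (Cs hF x) = 4) : False := by
  obtain ⟨hfin, hcard⟩ := id hF
  have := finite_SG hF
  have := Fact.mk (show Nat.Prime 73 by norm_num)
  have hac : Nat.card (Aset hF x) * Nat.card (Kset hF x) * Nat.card (Cs hF x) = 108 := by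
    rw [hA, hK, hC]
  have hH := card_stab hF S x
  rw [hac] at hH
  replace hH : Nat.card (stabilizer (SG 1 F q) x) = 78840 := by rw [hH, hq]; norm_num
  obtain ⟨P, a, haP, hP, ha, hnf, hmul, hdvd, hmod⟩ :=
    sylow_setup hF S (x := x) (r := 73) (n := 1080) (hH.trans (by norm_num)) (by norm_num)
      (by rw [hac]; norm_num)
  set n := Nat.card (Sylow 73 (stabilizer (SG 1 F q) x)) with hn
  set N := Subgroup.normalizer ((P : Subgroup (stabilizer (SG 1 F q) x)) : Set (stabilizer (SG 1 F q) x)) with hN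
  have hnd : n ∣ 1080 := by
    refine Nat.Coprime.dvd_of_dvd_mul_left (m := 73) ?_ ⟨Nat.card N, by rw [← hmul]; ring⟩
    rw [Nat.coprime_comm, Nat.Prime.coprime_iff_not_dvd (by norm_num)]
    omega
  have key : ∀ n < 1081, n ∣ 1080 → n % 73 = 1 → n = 1 := by decide +kernel
  have hn1 : n = 1 := key n (by have := Nat.le_of_dvd (by norm_num) hnd; omega) hnd hmod
  have hNtop : N = ⊤ := by
    refine Subgroup.eq_top_of_card_eq _ ?_
    rw [hn1, mul_one] at hmul
    rw [hmul, hH]
  let U : Subgroup N := (rad hF 1).comap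
    ((stabilizer (SG 1 F q) x).subtype.comp N.subtype)
  have hU : Nat.card U = 27 := by
    rw [show (27 : ℕ) = Nat.card (Aset hF x) * Nat.card (Kset hF x) by rw [hA, hK],
      ← card_fixed_heis hF x]
    refine (Nat.card_congr (Equiv.ofBijective
      (fun p : {p : Heis 1 F q // tE hF p • x = x} =>
        (⟨⟨⟨tE hF p.1, p.2⟩, hNtop ▸ Subgroup.mem_top _⟩, p.1, rfl⟩ : U))
      ⟨fun p p' e => Subtype.ext (tE_injective hF
        (congrArg (fun u : U => (u.1.1.1 : SG 1 F q)) e)), ?_⟩)).symm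
    rintro ⟨⟨⟨g, hg⟩, hgN⟩, p, hp⟩
    change tE hF p = g at hp
    subst hp
    exact ⟨⟨p, hg⟩, rfl⟩
  have hcyc : IsCyclic P := isCyclic_of_prime_card hP
  let φ : U →* MulAut P :=
    (Subgroup.normalizerMonoidHom (P : Subgroup (stabilizer (SG 1 F q) x))).comp U.subtype
  have hker : 1 < Nat.card φ.ker := by
    have h1 : Nat.card φ.range ∣ 72 := by
      have := Subgroup.card_subgroup_dvd_card φ.range
      rwa [IsCyclic.card_mulAut, hP, Nat.totient_prime (by norm_num)] at this
    have h2 := Subgroup.card_mul_index φ.ker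
    rw [Subgroup.index_ker, hU] at h2
    by_contra hle
    have h3 : Nat.card φ.ker = 1 := le_antisymm (not_lt.1 hle) Nat.card_pos
    rw [h3, one_mul] at h2
    rw [h2] at h1
    norm_num at h1
  obtain ⟨⟨b, hb⟩, hb1⟩ : ∃ b : φ.ker, b ≠ 1 := by
    have := Finite.one_lt_card_iff_nontrivial.1 hker
    exact exists_ne 1
  obtain ⟨p, hp⟩ := b.2
  have hp1 : p ≠ hOne hF := by
    rintro rfl
    refine hb1 (Subtype.ext (Subtype.ext (Subtype.ext (Subtype.ext ?_))))
    change (b.1.1.1 : SG 1 F q) = 1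
    rw [← tE_one hF]; exact hp.symm
  have e' := congrArg (fun f : MulAut P => ((f ⟨a, haP⟩ : P) : stabilizer (SG 1 F q) x))
    (show φ b = 1 from hb)
  simp [φ] at e'
  have hcomm : (b.1.1.1 : SG 1 F q) * a = a * b.1.1.1 :=
    coe_comm (mul_inv_eq_iff_eq_mul.1 e')
  have h1 := dvd_fixL hF (r := 73) ha hnf hcomm
  rw [show (b.1.1.1 : SG 1 F q) = tE hF p from hp.symm, card_fixL_tE hF hp1] at h1
  omega

set_option maxHeartbeats 800000 in
/-- The field of one hundred and twenty-one elements, with trivial centre part. -/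
theorem three_eleven_absurd (hq : q = 11) {x : X} (hA : Nat.card (Aset hF x) = 11)
    (hK : Kset hF x = ⊥) (hC : Nat.card (Cs hF x) = 30) (hw : ∃ l : Fˣ, l ^ 3 = 1 ∧ l ≠ 1 ∧
      lv hF l • x = x) : False := by
  obtain ⟨hfin, hcard⟩ := id hF
  have := finite_SG hF
  have := Fact.mk (show Nat.Prime 37 by norm_num)
  have hac : Nat.card (Aset hF x) * Nat.card (Kset hF x) * Nat.card (Cs hF x) = 330 := by
    rw [hA, hK, hC, AddSubgroup.card_bot]
  have hH := card_stab hF S x
  rw [hac] at hH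
  replace hH : Nat.card (stabilizer (SG 1 F q) x) = 439560 := by rw [hH, hq]; norm_num
  obtain ⟨P, a, haP, hP, ha, hnf, hmul, hdvd, hmod⟩ :=
    sylow_setup hF S (x := x) (r := 37) (n := 11880) (hH.trans (by norm_num)) (by norm_num)
      (by rw [hac]; norm_num)
  set N := Subgroup.normalizer ((P : Subgroup (stabilizer (SG 1 F q) x)) : Set (stabilizer (SG 1 F q) x)) with hN
  set n := Nat.card (Sylow 37 (stabilizer (SG 1 F q) x)) with hn
  have h120 : ∀ l : Fˣ, l ^ 120 = 1 := fun l => Units.ext (by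
    have := units_pow hF l
    rw [hq] at this
    rw [Units.val_pow_eq_pow_val, Units.val_one]
    exact this)
  have hfive : ∀ s : ℕ, s = 5 ∨ s = 11 → ¬ s ∣ Nat.card N := by
    intro s hs hsN
    have hsp : s.Prime := by rcases hs with rfl | rfl <;> norm_num
    have := Fact.mk hsp
    obtain ⟨b, hb⟩ := exists_prime_orderOf_dvd_card' s hsN
    have hc := MaxSub.Dickson.commute_of_normalizes (N := (P : Subgroup (stabilizer (SG 1 F q) x)))
      (r := 37) (s := s) (by norm_num) hsp hP
      (by rcases hs with rfl | rfl <;> norm_num) haP (b := b.1)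
      (by rw [Subgroup.orderOf_coe, hb]) b.2
    set u : SG 1 F q := b.1.1 with hu
    have huo : orderOf u = s := by rw [hu, Subgroup.orderOf_coe, Subgroup.orderOf_coe, hb]
    have hus : u ^ s = 1 := orderOf_pow_eq huo
    have hu1 : u ≠ 1 := fun e => by rw [e, orderOf_one] at huo; exact hsp.ne_one huo.symm
    have h37 := dvd_fixL hF (r := 37) ha hnf (u := u) (coe_comm hc.symm)
    obtain ⟨L, hL⟩ : ∃ L : Ln F q, u • L = L := by
      by_contra hne
      push Not at hne
      have h := dvd_invariant hF (r := s) hus hne (T := Set.univ) fun _ _ => Set.mem_univ _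
      rw [Nat.card_congr (Equiv.Set.univ (Ln F q)), card_Ln hF, hq] at h
      rcases hs with rfl | rfl <;> norm_num at h
    obtain ⟨h, p, l, hhx, e, hpx⟩ := to_Bor hF S (show u • x = x from b.1.2) hL
    have hls : l ^ s = 1 := pow_of_conj hF e hus
    rw [← card_fixL_conj hF h, e] at h37
    rcases hs with rfl | rfl
    · by_cases hl1 : l = 1
      · subst hl1
        rw [map_one, mul_one] at e h37
        rw [card_fixL_tE hF] at h37
        · omega
        rintro rfl
        rw [tE_one, mul_inv_eq_one, mul_eq_left] at e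
        exact hu1 e
      have hlo : orderOf l = 5 := orderOf_eq_prime hls hl1
      have hmu : mu q l ≠ 1 := by
        intro hm
        have : l ^ 21 = 1 := by
          change l ^ q * (l ^ q * l⁻¹) = 1 at hm
          rw [hq] at hm
          rw [← hm]; group
        have := orderOf_dvd_of_pow_eq_one this
        rw [hlo] at this
        omega
      have hnu : nu q l ≠ 1 := by
        intro hm
        change l ^ (q + 1) = 1 at hm
        have := orderOf_dvd_of_pow_eq_one hm
        rw [hlo, hq] at this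
        omega
      rw [card_fixL_regular hF hmu hnu] at h37
      omega
    · obtain rfl : l = 1 := by
        have e1 : (l ^ 11) ^ 11 = l ^ 120 * l := by group
        rw [hls, h120, one_pow, one_mul] at e1
        exact e1.symm
      rw [map_one, mul_one] at e h37
      rw [card_fixL_tE hF] at h37
      · omega
      rintro rfl
      rw [tE_one, mul_inv_eq_one, mul_eq_left] at e
      exact hu1 e
  have hnd : n ∣ 11880 := by
    refine Nat.Coprime.dvd_of_dvd_mul_left (m := 37) ?_ ⟨Nat.card N, by rw [← hmul]; ring⟩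
    rw [Nat.coprime_comm, Nat.Prime.coprime_iff_not_dvd (by norm_num)]
    omega
  have hmul' : Nat.card N * n = 439560 := by rw [hmul]
  have h55 : 55 ∣ n := by
    have h5 : 5 ∣ n := (((show Nat.Prime 5 by norm_num).dvd_mul.1
      (show 5 ∣ Nat.card N * n by rw [hmul']; norm_num))).resolve_left (hfive 5 (Or.inl rfl))
    have h11 : 11 ∣ n := (((show Nat.Prime 11 by norm_num).dvd_mul.1
      (show 11 ∣ Nat.card N * n by rw [hmul']; norm_num))).resolve_left (hfive 11 (Or.inr rfl))
    omega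
  obtain ⟨j, hj⟩ := h55
  have hj2 : j ∣ 216 := by
    rw [hj, show (11880 : ℕ) = 55 * 216 from rfl] at hnd
    exact Nat.dvd_of_mul_dvd_mul_left (by norm_num) hnd
  have key : ∀ j < 217, j ∣ 216 → 55 * j % 37 = 1 → j = 72 := by decide +kernel
  have hj72 : j = 72 := key j (by have := Nat.le_of_dvd (by norm_num) hj2; omega) hj2
    (by rw [← hj]; exact hmod)
  have hN111 : Nat.card N = 111 := by
    rw [hj, hj72] at hmul'
    omega
  -- the normaliser centralises
  obtain ⟨l, hl3, hl1, hlx⟩ := hw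
  have hscal : ∀ g : SG 1 F q, lv hF l * g = g * lv hF l := by
    have hlq : (l : F) ^ q = (l : F) ^ 2 := by
      rw [hq, show (11 : ℕ) = 3 * 3 + 2 from rfl, pow_add, pow_mul, ← Units.val_pow_eq_pow_val, hl3,
        Units.val_one, one_pow, one_mul]
    have h3 : (l : F) ^ 3 = 1 := by rw [← Units.val_pow_eq_pow_val, hl3, Units.val_one]
    have hact : ∀ v, (lv hF l).1.1 v = (l : F) • v := by
      intro v
      obtain ⟨⟨⟨x', y'⟩, z'⟩, rfl⟩ := (ph hF 1).surjective v
      rw [lv_apply, ← map_smul, hlq]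
      congr 1
      have e1 : ((l : F) ^ 2)⁻¹ = l := inv_eq_of_mul_eq_one_left (by rw [← pow_succ']; exact h3)
      have e2 : (l : F) ^ 2 * (l : F)⁻¹ = l := by
        rw [sq, mul_assoc, mul_inv_cancel₀ l.ne_zero, mul_one]
      rw [e1, e2]; rfl
    intro g
    refine SG_ext hF fun v => ?_
    simp only [Subgroup.coe_mul, LinearEquiv.mul_apply, hact, map_smul]
  set z : stabilizer (SG 1 F q) x := ⟨lv hF l, hlx⟩ with hz
  have hzc : ∀ g : stabilizer (SG 1 F q) x, g * z = z * g := fun g =>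
    Subtype.ext (hscal g.1).symm
  have hzo : orderOf z = 3 := by
    have := Fact.mk Nat.prime_three
    rw [← Subgroup.orderOf_coe]
    exact orderOf_eq_prime (by rw [← map_pow, hl3, map_one]) fun e =>
      hl1 (lv_injective hF (e.trans (map_one _).symm))
  have hle : N ≤ Subgroup.centralizer (P : Set (stabilizer (SG 1 F q) x)) := by
    have hcyc : IsCyclic P := isCyclic_of_prime_card hP
    let φ : N →* MulAut P := Subgroup.normalizerMonoidHom (P : Subgroup (stabilizer (SG 1 F q) x))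
    have hker : φ.ker = ⊤ := by
      refine Subgroup.eq_top_of_card_eq _ (le_antisymm (Subgroup.card_le_card_group _) ?_)
      rw [hN111]
      refine Nat.le_of_dvd Nat.card_pos ?_
      have hao : orderOf a = 37 := by
        rw [← Subgroup.orderOf_coe]
        exact orderOf_eq_prime ha fun e => hnf (Le hF) (by rw [e, one_smul])
      have hcommP : ∀ c ∈ (P : Subgroup (stabilizer (SG 1 F q) x)), ∀ d ∈
          (P : Subgroup (stabilizer (SG 1 F q) x)), c * d = d * c := by
        intro c hc d hd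
        letI := IsCyclic.commGroup (α := P)
        exact congrArg Subtype.val (mul_comm (⟨c, hc⟩ : P) ⟨d, hd⟩)
      have haN : a ∈ N := Subgroup.le_normalizer haP
      have hzN : z ∈ N := by
        rw [hN, Subgroup.mem_normalizer_iff]
        intro g
        rw [show z * g * z⁻¹ = g by rw [← hzc, mul_inv_cancel_right]]
      have ha' : (⟨a, haN⟩ : N) ∈ φ.ker := MulEquiv.ext fun c => Subtype.ext (by
        change a * c.1 * a⁻¹ = c.1
        rw [hcommP a haP c.1 c.2, mul_inv_cancel_right])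
      have hz' : (⟨z, hzN⟩ : N) ∈ φ.ker := MulEquiv.ext fun c => Subtype.ext (by
        change z * c.1 * z⁻¹ = c.1
        rw [← hzc c.1, mul_inv_cancel_right])
      have d1 := φ.ker.orderOf_dvd_natCard ha'
      have d2 := φ.ker.orderOf_dvd_natCard hz'
      rw [Subgroup.orderOf_mk, hao] at d1
      rw [Subgroup.orderOf_mk, hzo] at d2
      exact (show (111 : ℕ) = 37 * 3 from rfl) ▸ Nat.Coprime.mul_dvd_of_dvd_of_dvd (by norm_num) d1 d2
    intro g hg
    rw [Subgroup.mem_centralizer_iff]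
    intro c hc
    have e : φ ⟨g, hg⟩ = 1 := by
      rw [← MonoidHom.mem_ker, hker]; exact Subgroup.mem_top _
    have e' := congrArg (fun f : MulAut P => ((f ⟨c, hc⟩ : P) : stabilizer (SG 1 F q) x)) e
    simp [φ] at e'
    exact (mul_inv_eq_iff_eq_mul.1 e').symm
  set M := (MonoidHom.transferSylow P hle).ker with hM
  have hMcard : Nat.card M = 11880 := by
    have h1 := (MonoidHom.ker_transferSylow_isComplement' P hle).card_mul
    change Nat.card M * Nat.card P = _ at h1
    rw [hP, hH] at h1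
    omega
  -- too many elements of order eleven
  have hv : ∀ v : {v : Aset hF x // v ≠ 0}, ∃ p : Heis 1 F q, p.1.1 = v.1.1 ∧ tE hF p • x = x :=
    fun v => v.1.2
  choose sec hsec using hv
  choose hh hhx hhL using fun L : Ln F q => line_trans hF S x L
  have hpow11 : ∀ p : Heis 1 F q, tE hF p • x = x → tE hF p ^ 11 = 1 := by
    intro p hp
    let R := (rad hF 1).subgroupOf (stabilizer (SG 1 F q) x)
    have hR : Nat.card R = 11 := by
      rw [show (11 : ℕ) = Nat.card (Aset hF x) * Nat.card (Kset hF x) by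
          rw [hA, hK, AddSubgroup.card_bot], ← card_fixed_heis hF x]
      refine (Nat.card_congr (Equiv.ofBijective (fun p : {p : Heis 1 F q // tE hF p • x = x} =>
        (⟨⟨tE hF p.1, p.2⟩, p.1, rfl⟩ : R)) ⟨fun p p' e => Subtype.ext (tE_injective hF
          (congrArg (fun u : R => (u.1.1 : SG 1 F q)) e)), ?_⟩)).symm
      rintro ⟨⟨g, hg⟩, p, hp⟩
      change tE hF p = g at hp
      subst hp
      exact ⟨⟨p, hg⟩, rfl⟩
    have h := pow_card_eq_one' (G := R) (x := ⟨⟨tE hF p, hp⟩, p, rfl⟩)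
    rw [hR] at h
    exact congrArg (fun u : R => (u.1.1 : SG 1 F q)) h
  let f : Ln F q × {v : Aset hF x // v ≠ 0} → stabilizer (SG 1 F q) x := fun r =>
    ⟨(hh r.1)⁻¹ * tE hF (sec r.2) * hh r.1, by
      change ((hh r.1)⁻¹ * tE hF (sec r.2) * hh r.1) • x = x
      rw [mul_smul, mul_smul, hhx, (hsec r.2).2, inv_smul_eq_iff, hhx]⟩
  have hf : ∀ r, f r ∈ M := by
    intro r
    have h11 : (f r) ^ 11 = 1 := Subtype.ext (by
      rw [Subgroup.coe_pow, Subgroup.coe_one]
      change ((hh r.1)⁻¹ * tE hF (sec r.2) * hh r.1) ^ 11 = 1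
      rw [show (hh r.1)⁻¹ * tE hF (sec r.2) * hh r.1 =
        (hh r.1)⁻¹ * tE hF (sec r.2) * (hh r.1)⁻¹⁻¹ by rw [inv_inv], conj_pow,
        hpow11 _ (hsec r.2).2]
      group)
    rw [hM, MonoidHom.mem_ker]
    have h1 := congrArg (MonoidHom.transferSylow P hle) h11
    rw [map_pow, map_one] at h1
    have h2 := pow_card_eq_one' (G := P) (x := MonoidHom.transferSylow P hle (f r))
    rw [hP] at h2
    have h3 := orderOf_dvd_of_pow_eq_one h1
    have h4 := orderOf_dvd_of_pow_eq_one h2
    rw [← orderOf_eq_one_iff]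
    refine Nat.dvd_one.1 ?_
    have h5 := Nat.dvd_gcd h3 h4
    rwa [show Nat.gcd 11 37 = 1 by norm_num] at h5
  have hinj : Function.Injective (fun r => (⟨f r, hf r⟩ : M)) := by
    intro r r' e
    have e0 : (hh r.1)⁻¹ * tE hF (sec r.2) * hh r.1 = (hh r'.1)⁻¹ * tE hF (sec r'.2) * hh r'.1 :=
      congrArg (fun u : M => (u.1.1 : SG 1 F q)) e
    have hne : ∀ v, sec v ≠ hOne hF := fun v h => v.2 (Subtype.ext (by
      rw [← (hsec v).1, h]; rfl))
    have hL : r.1 = r'.1 := by
      have h1 : ((hh r.1)⁻¹ * tE hF (sec r.2) * hh r.1) • r.1 = r.1 := by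
        rw [mul_smul, mul_smul, hhL, tE_smul_Le, inv_smul_eq_iff, hhL]
      rw [e0, mul_smul, mul_smul, inv_smul_eq_iff] at h1
      exact MulAction.injective (hh r'.1) ((eq_Le_of_tE hF (hne _) h1).trans (hhL r'.1).symm)
    refine Prod.ext hL (Subtype.ext (Subtype.ext ?_))
    rw [hL] at e0
    rw [← (hsec r.2).1, ← (hsec r'.2).1, tE_injective hF (mul_left_cancel (mul_right_cancel e0))]
  have hbound := Nat.card_le_card_of_injective _ hinj
  rw [hMcard, Nat.card_prod, card_Ln hF] at hbound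
  have hq3 : q ^ 3 = 1331 := by rw [hq]; norm_num
  have h10 : Nat.card {v : Aset hF x // v ≠ 0} = 10 := by
    classical
    have := Fintype.ofFinite (Aset hF x)
    rw [Nat.card_eq_fintype_card, Fintype.card_subtype_compl, Fintype.card_subtype_eq,
      ← Nat.card_eq_fintype_card, hA]
  rw [h10, hq3] at hbound
  omega

end Cfsg.Agent.MinU.Three
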