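/-
No transitive action of the three-dimensional special unitary group on at most `q ^ 3` points,
away from five.
-/
import Mathlib
import Cfsg.Agent.MinU.ThreeKinds
import Cfsg.Agent.MinU.ThreeSmall
import Cfsg.Agent.MinU.Results

set_option autoImplicit false

namespace Cfsg.Agent.MinU.Three

open Cfsg.Agent.Classical.U Cfsg.Agent.MinU MulAction

universe u v

variable {F : Type u} [Field F] {q : ℕ}
variable (hF : SqField F q)
include hF
variable {X : Type v} [UAct F q X 1]

theorem Cs_tE (r : Heis 1 F q) (y : X) : Cs hF (tE hF r • y) = Cs hF y := by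
  have key : ∀ (r : Heis 1 F q) (y : X), Cs hF y ≤ Cs hF (tE hF r • y) := by
    intro r y l hl'
    obtain ⟨p, hp⟩ := (mem_Cs hF).1 hl'
    refine (mem_Cs hF).2 ⟨hMul hF r (hMul hF p (hInv hF (hl hF l r))), ?_⟩
    rw [← tE_mul, ← tE_mul, ← tE_inv, ← lv_conj,
      show tE hF r * (tE hF p * (lv hF l * tE hF r * (lv hF l)⁻¹)⁻¹) * lv hF l =
        tE hF r * (tE hF p * lv hF l) * (tE hF r)⁻¹ by group,
      mul_smul, mul_smul, inv_smul_smul, hp]
  refine le_antisymm ?_ (key r y)
  have := key (hInv hF r) (tE hF r • y)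
  rwa [← tE_inv, inv_smul_smul] at this

/-- Moving a point until a regular Levi element fixes it. -/
theorem good_point {x : X} {g : Fˣ} (hg : g ∈ Cs hF x) (hmu : mu q g ≠ 1) (hnu : nu q g ≠ 1) :
    ∃ x' : X, lv hF g • x' = x' ∧ Aset hF x' = Aset hF x ∧ Kset hF x' = Kset hF x ∧
      Cs hF x' = Cs hF x := by
  obtain ⟨p, hp⟩ := (mem_Cs hF).1 hg
  obtain ⟨s, hs⟩ := exists_conj_lv hF hmu hnu p
  refine ⟨(tE hF s)⁻¹ • x, ?_, ?_, ?_, ?_⟩
  · rw [hs, mul_smul, mul_smul] at hp
    exact eq_inv_smul_iff.2 hp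
  all_goals rw [tE_inv]
  · exact Aset_tE hF _ x
  · exact Kset_tE hF _ x
  · exact Cs_tE hF _ x

variable (S : Setting F q X)
include S

/-- The regular shape is impossible. -/
theorem regular_absurd (h5 : q ≠ 5) {x : X} (hA : Aset hF x = ⊥) (hK : Kset hF x = ⊥) : False := by
  obtain ⟨hfin, hcard⟩ := id hF
  have hq := S.three
  have hC := regular_shape hF S hA hK
  obtain ⟨g, hg⟩ := IsCyclic.exists_generator (α := Fˣ)
  have hgo : orderOf g = q ^ 2 - 1 := by
    classical
    have := Fintype.ofFinite F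
    rw [orderOf_eq_card_of_forall_mem_zpowers hg, Nat.card_eq_fintype_card, Fintype.card_units,
      ← Nat.card_eq_fintype_card, hcard]
  obtain ⟨e, rfl⟩ : ∃ e, q = e + 3 := ⟨q - 3, by omega⟩
  have hfac : (e + 3) ^ 2 - 1 = (e + 4) * (e + 2) := by
    rw [show (e + 3) ^ 2 = (e + 4) * (e + 2) + 1 by ring, Nat.add_sub_cancel]
  have hbig : 2 * (e + 4) ≤ (e + 4) * (e + 2) := by
    rw [mul_comm 2]; exact Nat.mul_le_mul_left _ (by omega)
  rw [hfac] at hgo
  have hpow : ∀ n : ℕ, 0 < n → n < (e + 4) * (e + 2) → g ^ n ≠ 1 := by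
    intro n hn hlt h
    have := Nat.le_of_dvd hn (orderOf_dvd_of_pow_eq_one h)
    omega
  have hnu : nu (e + 3) g ≠ 1 := hpow (e + 3 + 1) (by omega) (by omega)
  have hmu : mu (e + 3) g ≠ 1 := by
    intro h
    refine hnu (Units.ext ?_)
    rw [← mu_norm hF, h]
    simp
  obtain ⟨x', hfix, hA', hK', -⟩ := good_point hF (x := x) (g := g)
    (hC ▸ Subgroup.mem_top g) hmu hnu
  rw [hA] at hA'
  rw [hK] at hK'
  have hall : ∀ l : Fˣ, lv hF l • x' = x' := by
    intro l
    obtain ⟨i, rfl⟩ := hg l
    rw [map_zpow]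
    exact (Subgroup.zpowers_le.2 (show lv hF g ∈ stabilizer (SG 1 F (e + 3)) x' from hfix))
      (Subgroup.zpow_mem_zpowers _ i)
  rcases e.eq_zero_or_pos with rfl | he
  · exact three_three_absurd hF S rfl hA' hK' hall
  have hord : orderOf (nu (e + 3) g) = e + 2 := by
    change orderOf (g ^ (e + 3 + 1)) = e + 2
    rw [orderOf_pow_of_dvd (by omega) (by rw [hgo]; exact dvd_mul_right _ _), hgo,
      show e + 3 + 1 = e + 4 from rfl, Nat.mul_div_cancel_left _ (by omega)]
  have h := torus_core hF S (g0 := g) hfix (fun l _ => hg l) hK'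
    (l0 := g ^ (e + 2)) (Subgroup.npow_mem_zpowers _ _)
    (by
      change (g ^ (e + 2)) ^ (e + 3 + 1) = 1
      rw [← pow_mul, mul_comm, ← hgo, pow_orderOf_eq_one])
    (by
      rw [← pow_mul]
      refine hpow _ (by omega) ?_
      rw [mul_comm (e + 2) 3]
      exact Nat.mul_lt_mul_of_pos_right (by omega) (by omega))
    (by omega)
  rw [hord] at h
  have hle : e + 3 ≤ 7 := by
    by_contra hh
    have : (e + 3 + 1) * (e + 2) ≤ 60 := by
      simp only [Finset.mem_insert, Finset.mem_singleton] at h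
      omega
    have h9 : 9 * 7 ≤ (e + 3 + 1) * (e + 2) := Nat.mul_le_mul (by omega) (by omega)
    omega
  have he4 : e ≤ 4 := by omega
  interval_cases e <;> simp at h h5

/-- The shape with a real line is impossible. -/
theorem real_absurd (h5 : q ≠ 5) {x : X} (hA : Aset hF x ≠ ⊥) (hK : Kset hF x = ⊥) : False := by
  obtain ⟨hfin, hcard⟩ := id hF
  have := finite_SG hF
  have hq := S.three
  obtain ⟨-, haq, hodd, hq3, hcases, hroot, hcq⟩ := bot_shape hF S hA hK
  obtain ⟨t, ht⟩ : ∃ t, q + 1 = 6 * t := ⟨(q + 1) / 6, by omega⟩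
  have ht2 : 2 ≤ t := by omega
  -- the cyclic group of Levi parts
  obtain ⟨⟨g, hgC⟩, hgen⟩ := IsCyclic.exists_generator (α := Cs hF x)
  set c := Nat.card (Cs hF x) with hc
  have hgo : orderOf g = c := by
    rw [← Subgroup.orderOf_mk g hgC, orderOf_eq_card_of_forall_mem_zpowers hgen]
  have hgen' : ∀ l ∈ Cs hF x, l ∈ Subgroup.zpowers g := by
    intro l hl'
    obtain ⟨i, hi⟩ := hgen ⟨l, hl'⟩
    exact ⟨i, congrArg Subtype.val hi⟩
  have hc' : c = 3 * (q - 1) ∨ c * 2 = 3 * (q - 1) := by
    rcases hcases with h | h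
    · left
      refine le_antisymm (card_le_of_pow _ (by omega) hroot) ?_
      classical
      have := Fintype.ofFinite F
      obtain ⟨w, hw⟩ := IsCyclic.exists_ofOrder_eq_natCard (α := Fˣ)
      rw [Nat.card_eq_fintype_card, Fintype.card_units, ← Nat.card_eq_fintype_card, hcard] at hw
      have hd : 3 * (q - 1) ∣ q ^ 2 - 1 := by
        refine ⟨2 * t, ?_⟩
        have : q - 1 + 1 = q := by omega
        obtain ⟨r, hr⟩ : ∃ r, q = r + 1 := ⟨q - 1, by omega⟩
        subst hr
        rw [Nat.add_sub_cancel, show (r + 1) ^ 2 = r * (r + 1 + 1) + 1 by ring, Nat.add_sub_cancel,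
          ht]
        ring
      have hne : q ^ 2 - 1 ≠ 0 := by
        have : 9 ≤ q ^ 2 := le_trans (by norm_num) (Nat.pow_le_pow_left hq 2)
        omega
      have h2 := orderOf_pow_of_dvd (x := w) (n := (q ^ 2 - 1) / (3 * (q - 1)))
        (Nat.div_pos (Nat.le_of_dvd (by omega) hd) (by omega)).ne' (by
          rw [hw]; exact Nat.div_dvd_of_dvd hd)
      rw [hw, Nat.div_div_self hd hne] at h2
      have hmem : w ^ ((q ^ 2 - 1) / (3 * (q - 1))) ∈ Cs hF x :=
        (h _).2 (by
          have e := pow_orderOf_eq_one (w ^ ((q ^ 2 - 1) / (3 * (q - 1))))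
          rwa [h2] at e)
      have := Subgroup.orderOf_dvd_natCard _ hmem
      rw [h2] at this
      exact Nat.le_of_dvd Nat.card_pos this
    · exact Or.inr h
  rcases Nat.even_or_odd c with ⟨d, hd⟩ | ⟨d, hd⟩
  swap
  -- odd order: an involution has no line to fix
  · have hH := card_stab hF S x
    rw [haq, hK, AddSubgroup.card_bot, mul_one] at hH
    have hq1 : (q * c) % 2 = 1 := by
      rw [Nat.mul_mod, hodd, show c % 2 = 1 by omega]
    have h2 : 2 ∣ Nat.card (stabilizer (SG 1 F q) x) := by
      rw [hH]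
      refine Dvd.dvd.mul_right ?_ _
      have : q ^ 3 % 2 = 1 := by rw [Nat.pow_mod, hodd]
      omega
    have := Fact.mk Nat.prime_two
    obtain ⟨b, hb⟩ := exists_prime_orderOf_dvd_card' 2 h2
    have hbo : orderOf (b : SG 1 F q) = 2 := by rw [Subgroup.orderOf_coe, hb]
    obtain ⟨L, hL⟩ := exists_fixed_of_invol hF (g := (b : SG 1 F q))
      (by rw [← sq]; exact orderOf_pow_eq hbo)
    refine no_fix hF S b.2 hbo ?_ L hL
    rw [haq, hK, AddSubgroup.card_bot, mul_one, ← hc]
    omega
  have hqc : c = 3 * (q - 1) ∨ c * 2 = 3 * (q - 1) ∧ t % 2 = 1 := by omega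
  obtain ⟨c0, hc0, hgcd, hc3, hprod⟩ : ∃ c0, c = 6 * c0 ∧ Nat.gcd c (q + 1) = 6 ∧ 3 ≤ c0 ∧
      (c0 = 3 * t - 1 ∨ 2 * c0 = 3 * t - 1 ∧ t % 2 = 1) := by
    have hg : ∀ c0, 2 * c0 = 3 * t - 1 ∨ c0 = 3 * t - 1 → Nat.gcd c0 t = 1 := by
      intro c0 h
      refine Nat.eq_one_of_dvd_one ?_
      have h1 : Nat.gcd c0 t ∣ 3 * t := dvd_mul_of_dvd_right (Nat.gcd_dvd_right _ _) _
      have h2 : Nat.gcd c0 t ∣ 3 * t - 1 := by
        rcases h with h | h <;> rw [← h]
        · exact dvd_mul_of_dvd_right (Nat.gcd_dvd_left _ _) _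
        · exact Nat.gcd_dvd_left _ _
      have h3 := Nat.dvd_sub h1 h2
      rwa [Nat.sub_sub_self (by omega)] at h3
    rcases hqc with h | ⟨h, hto⟩
    · refine ⟨3 * t - 1, by omega, ?_, by omega, Or.inl rfl⟩
      rw [show c = 6 * (3 * t - 1) by omega, ht, Nat.gcd_mul_left, hg _ (Or.inr rfl)]
    · refine ⟨(3 * t - 1) / 2, by omega, ?_, by omega, Or.inr ⟨by omega, hto⟩⟩
      rw [show c = 6 * ((3 * t - 1) / 2) by omega, ht, Nat.gcd_mul_left, hg _ (Or.inl (by omega))]
  have hord : orderOf (nu q g) = c0 := by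
    change orderOf (g ^ (q + 1)) = c0
    rw [orderOf_pow' g (by omega), hgo, hgcd, hc0, Nat.mul_div_cancel_left _ (by norm_num)]
  have hnu : nu q g ≠ 1 := fun h => by rw [h, orderOf_one] at hord; omega
  have hmu : mu q g ≠ 1 := by
    intro h
    refine hnu (Units.ext ?_)
    rw [← mu_norm hF, h]
    simp
  obtain ⟨x', hfix, hA', hK', hC'⟩ := good_point hF hgC hmu hnu
  rw [hK] at hK'
  have hl0 : ∀ n : ℕ, 0 < n → n < c → g ^ n ≠ 1 := by
    intro n hn hlt h
    have := Nat.le_of_dvd hn (orderOf_dvd_of_pow_eq_one h)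
    omega
  have hsq : (g ^ (3 * c0)) ^ 2 = 1 := by
    rw [← pow_mul, show 3 * c0 * 2 = orderOf g by omega, pow_orderOf_eq_one]
  have h := torus_core hF S (g0 := g) hfix (fun l hl' => hgen' l (hC' ▸ hl')) hK'
    (l0 := g ^ (3 * c0)) (Subgroup.npow_mem_zpowers _ _)
    (by
      change (g ^ (3 * c0)) ^ (q + 1) = 1
      rw [show q + 1 = 2 * (3 * t) by omega, pow_mul, hsq, one_pow])
    (by
      rw [pow_succ, hsq, one_mul]
      exact hl0 _ (by omega) (by omega))
    (by omega)
  rw [hord] at h
  have htc : t * c0 ≤ 10 := by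
    have h1 : (q + 1) * c0 ≤ 60 := by
      simp only [Finset.mem_insert, Finset.mem_singleton] at h
      omega
    rw [ht, mul_assoc] at h1
    omega
  have ht3 : t ≤ 3 := by
    by_contra hh
    have : 4 * 3 ≤ t * c0 := Nat.mul_le_mul (by omega) hc3
    omega
  rcases (show (t = 2 ∧ c0 = 5) ∨ (t = 3 ∧ c0 = 4) ∨ (t = 3 ∧ c0 = 8) by omega) with
    ⟨rfl, rfl⟩ | ⟨rfl, rfl⟩ | ⟨rfl, rfl⟩
  · have hq11 : q = 11 := by omega
    refine three_eleven_absurd hF S hq11 (x := x') (by rw [hA', haq, hq11]) hK'
      (by rw [hC', ← hc]; omega) ⟨g ^ 10, ?_, hl0 _ (by omega) (by omega), ?_⟩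
    · rw [← pow_mul, show 10 * 3 = orderOf g by omega, pow_orderOf_eq_one]
    · rw [map_pow]
      exact (stabilizer (SG 1 F q) x').pow_mem hfix 10
  · omega
  · omega

/-- The shape with a centre part is impossible. -/
theorem centre_absurd {x : X} (hK : Kset hF x ≠ ⊥) : False := by
  obtain ⟨hfin, hcard⟩ := id hF
  classical
  have hq := S.three
  have hA := Aset_ne_bot hF S hK
  have hle := le_acC hF S x
  obtain ⟨hC3, hC1⟩ := card_Cs_le hF S hA
  have haq := Aset_le_q hF S x
  obtain ⟨P, k, hP, hchar, hqP⟩ := hF.exists_char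
  have hpow2 : ∀ l : Fˣ, l ^ (q ^ 2 - 1) = 1 := fun l => Units.ext (by
    rw [Units.val_pow_eq_pow_val]; exact units_pow hF l)
  have hmu3 : ∀ l : Fˣ, mu q l = 1 → l ^ 3 = 1 := by
    intro l h
    have h1 : l ^ q * (l ^ q * l⁻¹) = 1 := h
    have h2 : (l ^ q) ^ q = l := Units.ext (by simp [hF.pow_pow])
    have e : l = l ^ (q * 2) := by
      rw [pow_mul, sq]
      rw [← mul_assoc, mul_inv_eq_one] at h1
      exact h1.symm
    have h4 : l ^ 4 = l := by
      calc l ^ 4 = ((l ^ q) ^ q) ^ 4 := by rw [h2]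
        _ = (l ^ (q * 2)) ^ (q * 2) := by rw [← pow_mul, ← pow_mul, ← pow_mul]; congr 1; ring
        _ = l := by rw [← e, ← e]
    rwa [show l ^ 4 = l ^ 3 * l from pow_succ l 3, mul_eq_right] at h4
  rcases centre_kinds hF S hK with ⟨h2, hκ⟩ | ⟨hq9, hκ⟩
  · rw [hκ] at hle
    -- the scalars on the centre are trivial
    obtain ⟨k0, hk0, hk00⟩ := (AddSubgroup.bot_or_exists_ne_zero _).resolve_left hK
    have hKeq : ∀ d ∈ Kset hF x, d = 0 ∨ d = k0 := by
      intro d hd
      by_contra hne
      push Not at hne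
      have h3 : ({0, k0, d} : Finset F).card ≤ 2 := by
        have := Fintype.ofFinite (Kset hF x)
        rw [← hκ, Nat.card_eq_fintype_card]
        rw [Fintype.card_of_subtype ((Set.toFinite (Kset hF x : Set F)).toFinset) (fun a => by simp)]
        refine Finset.card_le_card fun a ha => ?_
        simp at ha ⊢
        rcases ha with rfl | rfl | rfl
        · exact (Kset hF x).zero_mem
        · exact hk0
        · exact hd
      rw [Finset.card_insert_of_notMem (by simp [Ne.symm hk00, Ne.symm hne.1]),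
        Finset.card_pair (Ne.symm hne.2)] at h3
      omega
    have hnu : ∀ l ∈ Cs hF x, l ^ (q + 1) = 1 := by
      intro l hl'
      rcases hKeq _ (nu_mem_Kset hF hl' hk0) with h | h
      · exact absurd h (mul_ne_zero (nu q l).ne_zero hk00)
      · exact Units.ext ((mul_eq_right₀ hk00).1 h)
    have ha4 : Nat.card (Aset hF x) ≤ 4 := by
      by_cases hcomm : ∀ v ∈ Aset hF x, ∀ w ∈ Aset hF x, herm q w v = herm q v w
      · obtain ⟨w, hw, hw0⟩ := (AddSubgroup.bot_or_exists_ne_zero _).resolve_left hA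
        have hw00 : w 0 ≠ 0 := fun e => hw0 (ext_one e)
        have hnorm : ∀ v ∈ Aset hF x, herm q v v ∈ Kset hF x := by
          rintro v ⟨p, rfl, hp⟩
          have h : tE hF (hMul hF p p) • x = x := by rw [← tE_mul, mul_smul, hp, hp]
          have hv : (hMul hF p p).1.1 = (hOne hF : Heis 1 F q).1.1 := by
            change p.1.1 + p.1.1 = 0
            rw [← two_smul F, h2, zero_smul]
          have h3 := sub_mem_Kset hF hv h (show tE hF (hOne hF) • x = x by rw [tE_one, one_smul])
          convert h3 using 1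
          change herm q p.1.1 p.1.1 = p.1.2 + p.1.2 - herm q p.1.1 p.1.1 - 0
          linear_combination (herm q p.1.1 p.1.1 - p.1.2) * h2
        have hinj : Function.Injective (fun v : Aset hF x =>
            (⟨_, hnorm v.1 v.2⟩ : Kset hF x)) := by
          intro v v' e
          have e' : herm q v.1 v.1 = herm q v'.1 v'.1 := congrArg Subtype.val e
          have hrat : ∀ u : Aset hF x, (u.1 0 / w 0) ^ q = u.1 0 / w 0 := by
            intro u
            have h := hcomm w hw u.1 u.2
            rw [herm_one hF, herm_one hF] at h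
            rw [div_pow, div_eq_div_iff (pow_ne_zero _ hw00) hw00]
            linear_combination -h
          have hsplit : ∀ u : Aset hF x,
              herm q u.1 u.1 = (u.1 0 / w 0) ^ 2 * herm q w w := by
            intro u
            rw [herm_one hF, herm_one hF]
            conv_lhs => rw [show u.1 0 = u.1 0 / w 0 * w 0 from (div_mul_cancel₀ _ hw00).symm,
              mul_pow, hrat u]
            ring
          rw [hsplit, hsplit] at e'
          have hww : herm q w w ≠ 0 := fun h => hw0 (eq_zero_of_norm hF h)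
          have e2 := mul_right_cancel₀ hww e'
          have e3 : (v.1 0 / w 0 - v'.1 0 / w 0) ^ 2 = 0 := by
            linear_combination e2 + ((v'.1 0 / w 0) ^ 2 - v.1 0 / w 0 * (v'.1 0 / w 0)) * h2
          have e4 := pow_eq_zero_iff two_ne_zero |>.1 e3
          rw [sub_eq_zero, div_left_inj' hw00] at e4
          exact Subtype.ext (ext_one e4)
        exact (Nat.card_le_card_of_injective _ hinj).trans (by omega)
      · push Not at hcomm
        obtain ⟨v, hv, v', hv', hne⟩ := hcomm
        have hinj : Function.Injective (fun w : Aset hF x =>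
            ((⟨_, comm_mem_Kset hF hv w.2⟩ : Kset hF x), (⟨_, comm_mem_Kset hF hv' w.2⟩ : Kset hF x))) := by
          intro w w' e
          have e1 : herm q w.1 v - herm q v w.1 = herm q w'.1 v - herm q v w'.1 :=
            congrArg (fun p : Kset hF x × Kset hF x => (p.1 : F)) e
          have e2 : herm q w.1 v' - herm q v' w.1 = herm q w'.1 v' - herm q v' w'.1 :=
            congrArg (fun p : Kset hF x × Kset hF x => (p.2 : F)) e
          simp only [herm_one hF] at e1 e2 hne
          refine Subtype.ext (ext_one ?_)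
          by_contra hd
          have hd' : w.1 0 - w'.1 0 ≠ 0 := sub_ne_zero.2 hd
          refine hne ?_
          have f1 : (w.1 0 - w'.1 0) * v 0 ^ q = v 0 * (w.1 0 - w'.1 0) ^ q := by
            rw [hF.sub_pow]; linear_combination e1
          have f2 : (w.1 0 - w'.1 0) * v' 0 ^ q = v' 0 * (w.1 0 - w'.1 0) ^ q := by
            rw [hF.sub_pow]; linear_combination e2
          have hdq := pow_ne_zero q hd'
          refine mul_left_cancel₀ hd' ?_
          linear_combination v' 0 * f1 - v 0 * f2
        refine (Nat.card_le_card_of_injective _ hinj).trans ?_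
        rw [Nat.card_prod, hκ]
    set a := Nat.card (Aset hF x) with ha
    set c := Nat.card (Cs hF x) with hc
    have hcd : c ∣ q + 1 := card_dvd_of_pow _ hnu
    have hc9 : c ≤ 9 := by omega
    have hq8 : q ≤ 8 := by
      by_contra hh
      have : 9 * 9 ≤ q ^ 2 := sq q ▸ Nat.mul_le_mul (by omega) (by omega)
      have : a * 2 * c ≤ 4 * 2 * 9 := Nat.mul_le_mul (by omega) hc9
      omega
    have hP2 : P = 2 := by
      have h2' : ((2 : ℕ) : F) = 0 := by exact_mod_cast h2
      exact ((Nat.prime_dvd_prime_iff_eq hP Nat.prime_two).1 ((CharP.cast_eq_zero_iff F P 2).1 h2'))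
    subst hP2
    rcases (show k ≤ 1 ∨ k = 2 ∨ k = 3 ∨ 4 ≤ k by omega) with hk | rfl | rfl | hk
    · have : 2 ^ k ≤ 2 ^ 1 := Nat.pow_le_pow_right two_pos hk
      omega
    · -- the field of sixteen elements
      norm_num at hqP
      have hc1 : c ≤ a - 1 := hC1 fun l hl' hm => by
        have h3 := hmu3 l hm
        have h5' := hnu l hl'
        rw [hqP] at h5'
        calc l = (l ^ 3) ^ 2 * (l ^ (4 + 1))⁻¹ := by group
          _ = 1 := by rw [h3, h5']; simp
      rw [hqP] at hle hcd
      have h' : a * 2 * c ≤ 4 * 2 * c := Nat.mul_le_mul_right _ (by omega)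
      have : c ≤ 3 := by omega
      interval_cases c <;> omega
    · norm_num at hqP
      rw [hqP] at hle hcd
      have hc8 : 8 ≤ c := by
        have h' : a * 2 * c ≤ 4 * 2 * c := Nat.mul_le_mul_right _ (by omega)
        omega
      have hc9' : c = 9 := by
        have := Nat.le_of_dvd (by norm_num) hcd
        interval_cases c <;> omega
      have ha4' : a = 4 := by omega
      refine three_eight_absurd hF S hqP (x := x) (by rw [← ha, hκ, ← hc, ha4', hc9']) ?_
      intro l hl'
      have := hnu l hl'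
      rwa [hqP] at this
    · have : 2 ^ 4 ≤ 2 ^ k := Nat.pow_le_pow_right two_pos hk
      omega
  · rw [hκ] at hle
    obtain ⟨k0, hk0, hk00⟩ := (AddSubgroup.bot_or_exists_ne_zero _).resolve_left hK
    -- the scalars on the centre are signs
    have hnu : ∀ l ∈ Cs hF x, l ^ 20 = 1 := by
      intro l hl'
      have hmem := nu_mem_Kset hF hl' hk0
      have hsq : ((nu q l : F)) ^ 2 = 1 := by
        have h3 : ∀ d ∈ Kset hF x, d = 0 ∨ d = k0 ∨ d = -k0 := by
          intro d hd
          have hgen : AddSubgroup.zmultiples (⟨k0, hk0⟩ : Kset hF x) = ⊤ :=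
            zmultiples_eq_top_of_prime_card (p := 3) (hp := Fact.mk Nat.prime_three) hκ
              (fun h => hk00 (congrArg Subtype.val h))
          obtain ⟨i, hi⟩ : (⟨d, hd⟩ : Kset hF x) ∈ AddSubgroup.zmultiples (⟨k0, hk0⟩ : Kset hF x) := by
            rw [hgen]; exact AddSubgroup.mem_top _
          have hi' : i • k0 = d := congrArg Subtype.val hi
          have h30 : (3 : F) * k0 = 0 := by
            have := congrArg Subtype.val (card_nsmul_eq_zero' (x := (⟨k0, hk0⟩ : Kset hF x)))
            rw [hκ] at this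
            simpa [nsmul_eq_mul] using this
          have h30' : (3 : F) = 0 := (mul_eq_zero.1 h30).resolve_right hk00
          have e : (i : F) = ((i % 3 : ℤ) : F) := by
            conv_lhs => rw [← Int.mul_ediv_add_emod i 3]
            push_cast
            rw [h30', zero_mul, zero_add]
          rw [zsmul_eq_mul, e] at hi'
          rcases (show i % 3 = 0 ∨ i % 3 = 1 ∨ i % 3 = 2 by omega) with h | h | h <;> rw [h] at hi'
          · left; rw [← hi']; simp
          · right; left; rw [← hi']; simp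
          · right; right; rw [← hi']; push_cast; linear_combination k0 * h30'
        rcases h3 _ hmem with h | h | h
        · exact absurd h (mul_ne_zero (nu q l).ne_zero hk00)
        · rw [(mul_eq_right₀ hk00).1 h, one_pow]
        · rw [mul_right_cancel₀ hk00 (h.trans (neg_one_mul k0).symm), neg_one_sq]
      refine Units.ext ?_
      have e : ((nu q l : F)) = (l : F) ^ 10 := by
        rw [nu_coe, ← pow_succ', hq9]
      rw [e, ← pow_mul] at hsq
      rw [Units.val_pow_eq_pow_val]
      exact hsq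
    have hc1 := hC1 fun l hl' hm => by
      have h3 := hmu3 l hm
      have h20 := hnu l hl'
      calc l = (l ^ 3) ^ 7 * (l ^ 20)⁻¹ := by group
        _ = 1 := by rw [h3, h20]; simp
    set a := Nat.card (Aset hF x) with ha
    set c := Nat.card (Cs hF x) with hc
    have hcd : c ∣ 20 := card_dvd_of_pow _ hnu
    have had : a ∣ 81 := by
      have h := (Aset hF x).card_addSubgroup_dvd_card
      rwa [Nat.card_fun, Nat.card_fin, hcard, pow_one, show q ^ 2 = 81 by rw [hq9]; norm_num] at h
    rw [hq9] at hle haq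
    have ha9 : a = 9 := by
      rw [show (81 : ℕ) = 3 ^ 4 from rfl, Nat.dvd_prime_pow Nat.prime_three] at had
      obtain ⟨j, hj, haj⟩ := had
      rw [haj] at haq hle hc1 ⊢
      interval_cases j <;> omega
    rw [ha9] at hle hc1
    have hcs : c = 4 ∨ c = 5 := by
      have : c ≤ 8 := by omega
      interval_cases c <;> omega
    rcases hcs with h4 | h5'
    · exact three_nine_absurd hF S hq9 (x := x) (by rw [← ha, ha9]) hκ (by rw [← hc, h4])
    · have := Fact.mk (show Nat.Prime 5 by norm_num)
      have hU : IsPGroup 5 (Cs hF x) := IsPGroup.of_card (n := 1) (by rw [← hc, h5', pow_one])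
      let _ : MulAction (Cs hF x) (Aset hF x) :=
        { smul := fun l w => ⟨_, mu_mem_Aset hF l.2 w.2⟩
          one_smul := fun w => Subtype.ext (by
            change (mu q (1 : Fˣ) : F) • w.1 = w.1
            rw [map_one, Units.val_one, one_smul])
          mul_smul := fun l l' w => Subtype.ext (by
            change (mu q (l.1 * l'.1) : F) • w.1 = (mu q l.1 : F) • (mu q l'.1 : F) • w.1
            rw [map_mul, Units.val_mul, mul_smul]) }
      have h := hU.card_modEq_card_fixedPoints (Aset hF x)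
      have : Nat.card (fixedPoints (Cs hF x) (Aset hF x)) = 1 := by
        rw [Nat.card_eq_one_iff_unique]
        refine ⟨⟨fun u u' => ?_⟩, ⟨⟨0, fun l => Subtype.ext (smul_zero _)⟩⟩⟩
        have hz : ∀ u : fixedPoints (Cs hF x) (Aset hF x), u.1.1 = 0 := by
          intro u
          by_contra hu
          obtain ⟨⟨l, hl'⟩, hl1⟩ : ∃ l : Cs hF x, l ≠ 1 := by
            have : Nontrivial (Cs hF x) := Finite.one_lt_card_iff_nontrivial.1 (by omega)
            exact exists_ne 1
          refine hl1 (Subtype.ext ?_)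
          have e : (mu q l : F) • u.1.1 = u.1.1 := congrArg Subtype.val (u.2 ⟨l, hl'⟩)
          have hm : mu q l = 1 :=
            Units.ext (smul_left_injective F hu (e.trans (one_smul F u.1.1).symm))
          have h3 := hmu3 l hm
          have h20 := hnu l hl'
          calc l = (l ^ 3) ^ 7 * (l ^ 20)⁻¹ := by group
            _ = 1 := by rw [h3, h20]; simp
        exact Subtype.ext (Subtype.ext ((hz u).trans (hz u').symm))
      rw [this, ← ha, ha9] at h
      exact absurd h (by decide)

omit S in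
/-- Every proper subgroup has index above the cube. -/
theorem index_bound_three (hq : 3 ≤ q) (h5 : q ≠ 5) :
    ∀ H : Subgroup (Cfsg.PSU 3 F q), H ≠ ⊤ → q ^ 3 + 1 ≤ H.index := by
  obtain ⟨hfin, -⟩ := id hF
  intro H hH
  by_contra hlt
  push Not at hlt
  obtain ⟨φ⟩ := nonempty_PSU_equiv 3 F q
  let π : SG 1 F q →* Cfsg.PSU 3 F q :=
    φ.symm.toMonoidHom.comp (QuotientGroup.mk' _)
  have hπ : Function.Surjective π := φ.symm.surjective.comp (QuotientGroup.mk'_surjective _)
  set K := H.comap π
  have := finite_SG hF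
  have hidx : K.index = H.index := Subgroup.index_comap_of_surjective H hπ
  have hcard : Nat.card (SG 1 F q ⧸ K) = H.index := by
    rw [← hidx]; exact (Subgroup.index_eq_card K).symm
  letI : UAct F q (SG 1 F q ⧸ K) 1 := ⟨inferInstance⟩
  have hKtop : K ≠ ⊤ := fun e => hH (Subgroup.index_eq_one.1 (by
    rw [← hidx, e, Subgroup.index_top]))
  have S : Setting F q (SG 1 F q ⧸ K) :=
    { three := hq
      fin := inferInstance
      trans := inferInstanceAs (IsPretransitive (SG 1 F q) (SG 1 F q ⧸ K))
      nofix := by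
        intro y
        by_contra hy
        push Not at hy
        refine hKtop (eq_top_iff.2 fun g _ => ?_)
        obtain ⟨b, rfl⟩ := QuotientGroup.mk_surjective y
        have e : ((b * g : SG 1 F q) : SG 1 F q ⧸ K) = (b : SG 1 F q ⧸ K) := by
          have := hy (b * g * b⁻¹)
          rwa [MulAction.Quotient.smul_coe, smul_eq_mul, inv_mul_cancel_right] at this
        rw [QuotientGroup.eq] at e
        simpa [mul_assoc] using e
      small := by omega }
  let x : SG 1 F q ⧸ K := ((1 : SG 1 F q) : SG 1 F q ⧸ K)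
  by_cases hK : Kset hF x = ⊥
  · by_cases hA : Aset hF x = ⊥
    · exact regular_absurd hF S h5 hA hK
    · exact real_absurd hF S h5 hA hK
  · exact centre_absurd hF S hK

end Cfsg.Agent.MinU.Three
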